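import Mathlib

set_option autoImplicit false
set_option linter.unusedSectionVars false

/-!
Symmetric designs given by their incidence, and groups of automorphisms.
-/

namespace CfsgLib.AxD

universe u v w

open scoped Classical

noncomputable section

/-- A symmetric design `2-(v, k, lam)` with `2 ≤ a = k - lam` and `1 ≤ lam`. -/
structure Des (P : Type u) (B : Type v) [Fintype P] [Fintype B] where
  I : P → B → Prop
  k : ℕ
  lam : ℕ
  a : ℕ
  k_eq : a + lam = k
  two_le_a : 2 ≤ a
  one_le_lam : 1 ≤ lam
  card_B : Fintype.card B = Fintype.card P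
  k_lt : k + 2 ≤ Fintype.card P
  card_pts : ∀ C, (Finset.univ.filter fun x => I x C).card = k
  card_blks : ∀ x, (Finset.univ.filter fun C => I x C).card = k
  card_pts_two : ∀ C D, C ≠ D → (Finset.univ.filter fun x => I x C ∧ I x D).card = lam
  card_blks_two : ∀ x y, x ≠ y → (Finset.univ.filter fun C => I x C ∧ I y C).card = lam

namespace Des

variable {P : Type u} {B : Type v} [Fintype P] [Fintype B] (D : Des P B)

/-- The points of a block. -/
def pts (C : B) : Finset P := Finset.univ.filter fun x => D.I x C

/-- The blocks through a point. -/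
def blks (x : P) : Finset B := Finset.univ.filter fun C => D.I x C

@[simp] theorem mem_pts {C : B} {x : P} : x ∈ D.pts C ↔ D.I x C := by simp [pts]

@[simp] theorem mem_blks {C : B} {x : P} : C ∈ D.blks x ↔ D.I x C := by simp [blks]

theorem pts_card (C : B) : (D.pts C).card = D.k := D.card_pts C

theorem blks_card (x : P) : (D.blks x).card = D.k := D.card_blks x

theorem inter_pts_card {C E : B} (h : C ≠ E) : (D.pts C ∩ D.pts E).card = D.lam := by
  rw [← D.card_pts_two C E h]; congr 1; ext x; simp

theorem inter_blks_card {x y : P} (h : x ≠ y) : (D.blks x ∩ D.blks y).card = D.lam := by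
  rw [← D.card_blks_two x y h]; congr 1; ext x; simp

theorem lam_lt_k : D.lam < D.k := by have := D.k_eq; have := D.two_le_a; omega

theorem two_lt_k : 2 < D.k := by have := D.k_eq; have := D.two_le_a; have := D.one_le_lam; omega

/-- The basic relation between the parameters. -/
theorem k_mul : D.k * D.k = D.a + D.lam * Fintype.card P := by
  obtain ⟨x⟩ : Nonempty P := Fintype.card_pos_iff.mp (by have := D.k_lt; omega)
  have h1 : ∑ y, (D.blks x ∩ D.blks y).card = D.k * D.k := by
    have : ∀ y, (D.blks x ∩ D.blks y).card = ∑ C ∈ D.blks x, if D.I y C then 1 else 0 := fun y => by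
      rw [Finset.sum_boole, Nat.cast_id]; congr 1; ext C; simp
    rw [Finset.sum_congr rfl fun y _ => this y, Finset.sum_comm, Finset.sum_congr rfl fun C _ => show
      (∑ y, if D.I y C then 1 else 0) = D.k by rw [Finset.sum_boole, Nat.cast_id]; exact D.pts_card C,
      Finset.sum_const, D.blks_card, smul_eq_mul]
  rw [← Finset.add_sum_erase _ _ (Finset.mem_univ x), Finset.inter_self, D.blks_card,
    Finset.sum_congr rfl fun y hy => D.inter_blks_card (Finset.ne_of_mem_erase hy).symm, Finset.sum_const,
    Finset.card_erase_of_mem (Finset.mem_univ x), Finset.card_univ, smul_eq_mul] at h1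
  have := D.k_lt
  have := D.k_eq
  obtain ⟨n, hn⟩ : ∃ n, Fintype.card P = n + 1 := ⟨Fintype.card P - 1, by omega⟩
  rw [hn, Nat.add_sub_cancel] at h1
  rw [hn]
  nlinarith

/-- Sum of squares of the block counts of a set of blocks. -/
theorem sum_sq (W : Finset B) :
    ∑ x, (W.filter fun C => D.I x C).card * (W.filter fun C => D.I x C).card =
      D.a * W.card + D.lam * (W.card * W.card) := by
  have h1 : ∀ x, (W.filter fun C => D.I x C).card * (W.filter fun C => D.I x C).card =
      ∑ C ∈ W, ∑ E ∈ W, if D.I x C ∧ D.I x E then 1 else 0 := fun x => by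
    rw [← Finset.card_product, ← Finset.sum_product', Finset.sum_boole, Nat.cast_id]
    congr 1
    ext ⟨C, E⟩
    simp; tauto
  rw [Finset.sum_congr rfl fun x _ => h1 x, Finset.sum_comm]
  rw [Finset.sum_congr rfl fun C hC => show
    (∑ x, ∑ E ∈ W, if D.I x C ∧ D.I x E then 1 else 0) = D.a + D.lam * W.card by
    rw [Finset.sum_comm, Finset.sum_congr rfl fun E _ => show
      (∑ x, if D.I x C ∧ D.I x E then 1 else 0) = D.lam + if E = C then D.a else 0 by
      rw [Finset.sum_boole, Nat.cast_id]
      split_ifs with h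
      · subst h; simp only [and_self_iff, D.card_pts, ← D.k_eq, add_comm]
      · exact D.card_pts_two C E (Ne.symm h)]
    rw [Finset.sum_add_distrib, Finset.sum_const, Finset.sum_ite_eq' W C, if_pos hC, smul_eq_mul]; ring]
  rw [Finset.sum_const, smul_eq_mul]; ring

theorem sum_count (W : Finset B) : ∑ x, (W.filter fun C => D.I x C).card = W.card * D.k := by
  rw [Finset.sum_congr rfl fun x _ => (show (W.filter fun C => D.I x C).card = ∑ C ∈ W, if D.I x C then 1 else 0 by
    rw [Finset.sum_boole, Nat.cast_id]), Finset.sum_comm, Finset.sum_congr rfl fun C _ => show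
    (∑ x, if D.I x C then 1 else 0) = D.k by rw [Finset.sum_boole, Nat.cast_id]; exact D.pts_card C,
    Finset.sum_const, smul_eq_mul]

theorem eq_of_blks {x y : P} (h : D.blks x = D.blks y) : x = y := by
  by_contra hne
  have := D.inter_blks_card hne
  rw [h, Finset.inter_self, D.blks_card] at this
  exact D.lam_lt_k.ne' this

theorem eq_of_pts {C E : B} (h : D.pts C = D.pts E) : C = E := by
  by_contra hne
  have := D.inter_pts_card hne
  rw [h, Finset.inter_self, D.pts_card] at this
  exact D.lam_lt_k.ne' this

end Des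

/-- A group of automorphisms. -/
structure DAct {P : Type u} {B : Type v} [Fintype P] [Fintype B] (D : Des P B) (G : Type w) [Group G] where
  p : G →* Equiv.Perm P
  b : G →* Equiv.Perm B
  inc : ∀ g x C, D.I (p g x) (b g C) ↔ D.I x C
  faith : ∀ g, p g = 1 → g = 1

namespace DAct

variable {P : Type u} {B : Type v} [Fintype P] [Fintype B] {D : Des P B} {G : Type w} [Group G] (A : DAct D G)

theorem p_mul (g h : G) (x : P) : A.p (g * h) x = A.p g (A.p h x) := by rw [map_mul]; rfl

theorem b_mul (g h : G) (C : B) : A.b (g * h) C = A.b g (A.b h C) := by rw [map_mul]; rfl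

theorem p_inv_apply (g : G) (x : P) : A.p g⁻¹ (A.p g x) = x := by rw [← A.p_mul]; simp

theorem p_apply_inv (g : G) (x : P) : A.p g (A.p g⁻¹ x) = x := by rw [← A.p_mul]; simp

theorem b_inv_apply (g : G) (C : B) : A.b g⁻¹ (A.b g C) = C := by rw [← A.b_mul]; simp

theorem b_apply_inv (g : G) (C : B) : A.b g (A.b g⁻¹ C) = C := by rw [← A.b_mul]; simp

include A in
theorem finite : Finite G :=
  Finite.of_injective A.p ((injective_iff_map_eq_one _).mpr A.faith)

theorem eq_one_of_blocks {g : G} (h : ∀ C, A.b g C = C) : g = 1 := by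
  refine A.faith g (Equiv.ext fun x => D.eq_of_blks (Finset.ext fun C => ?_))
  rw [D.mem_blks, D.mem_blks]
  have := A.inc g x C
  rw [h] at this
  exact this

/-- The fixed points. -/
def Fp (g : G) : Finset P := Finset.univ.filter fun x => A.p g x = x

/-- The fixed blocks. -/
def Fb (g : G) : Finset B := Finset.univ.filter fun C => A.b g C = C

@[simp] theorem mem_Fp {g : G} {x : P} : x ∈ A.Fp g ↔ A.p g x = x := by simp [Fp]

@[simp] theorem mem_Fb {g : G} {C : B} : C ∈ A.Fb g ↔ A.b g C = C := by simp [Fb]

/-- An automorphism fixes as many blocks as points. -/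
theorem card_Fb (g : G) : (A.Fb g).card = (A.Fp g).card := by
  have h1 : ∀ x, (Finset.univ.filter fun C => D.I x C ∧ D.I (A.p g x) C).card =
      D.lam + if A.p g x = x then D.a else 0 := fun x => by
    split_ifs with h
    · simp only [h, and_self_iff, D.card_blks, ← D.k_eq, add_comm]
    · exact D.card_blks_two x _ (Ne.symm h)
  have h2 : ∀ C, (Finset.univ.filter fun x => D.I x C ∧ D.I (A.p g x) C).card =
      D.lam + if A.b g C = C then D.a else 0 := fun C => by
    have e : ∀ x, D.I (A.p g x) C ↔ D.I x (A.b g⁻¹ C) := fun x => by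
      conv_rhs => rw [← A.inc g, A.b_apply_inv]
    simp only [e]
    have e' : A.b g⁻¹ C = C ↔ A.b g C = C := by
      constructor <;> intro h
      · conv_lhs => rw [← h, A.b_apply_inv]
      · conv_lhs => rw [← h, A.b_inv_apply]
    split_ifs with h
    · simp only [e'.mpr h, and_self_iff, D.card_pts, ← D.k_eq, add_comm]
    · exact D.card_pts_two C _ fun e'' => h (e'.mp e''.symm)
  have h3 : ∑ x, (Finset.univ.filter fun C => D.I x C ∧ D.I (A.p g x) C).card =
      ∑ C, (Finset.univ.filter fun x => D.I x C ∧ D.I (A.p g x) C).card := by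
    simp only [Finset.card_filter]
    exact Finset.sum_comm
  rw [Finset.sum_congr rfl fun x _ => h1 x, Finset.sum_congr rfl fun C _ => h2 C, Finset.sum_add_distrib,
    Finset.sum_add_distrib, Finset.sum_const, Finset.sum_const, Finset.card_univ, Finset.card_univ, D.card_B,
    ← Finset.sum_filter, ← Finset.sum_filter, Finset.sum_const, Finset.sum_const, smul_eq_mul, smul_eq_mul,
    smul_eq_mul, add_right_inj] at h3
  exact (Nat.eq_of_mul_eq_mul_right (by have := D.two_le_a; omega) h3).symm

/-- The stabiliser of a block. -/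
def stB (C : B) : Subgroup G where
  carrier := {g | A.b g C = C}
  mul_mem' {g h} hg hh := by
    simp only [Set.mem_ofPred_eq] at hg hh ⊢
    rw [A.b_mul, hh, hg]
  one_mem' := by simp
  inv_mem' {g} hg := by
    simp only [Set.mem_ofPred_eq] at hg ⊢
    conv_lhs => rw [← hg, A.b_inv_apply]

@[simp] theorem mem_stB {C : B} {g : G} : g ∈ A.stB C ↔ A.b g C = C := Iff.rfl

/-- The pointwise stabiliser of a block. -/
def ker (C : B) : Subgroup G where
  carrier := {g | ∀ x, D.I x C → A.p g x = x}
  mul_mem' {g h} hg hh x hx := by rw [A.p_mul, hh x hx, hg x hx]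
  one_mem' := fun x _ => by simp
  inv_mem' {g} hg x hx := by conv_lhs => rw [← hg x hx, A.p_inv_apply]

@[simp] theorem mem_ker {C : B} {g : G} : g ∈ A.ker C ↔ ∀ x, D.I x C → A.p g x = x := Iff.rfl

theorem ker_le_stB (C : B) : A.ker C ≤ A.stB C := by
  intro g hg
  refine (D.eq_of_pts (Finset.eq_of_subset_of_card_le (fun x hx => ?_) (by rw [D.pts_card, D.pts_card]))).symm
  rw [D.mem_pts] at hx ⊢
  have := (A.inc g x C).mpr hx
  rwa [hg x hx] at this

theorem ker_conj {g h : G} {C : B} (hh : h ∈ A.ker C) : g * h * g⁻¹ ∈ A.ker (A.b g C) := by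
  intro x hx
  have : D.I (A.p g⁻¹ x) C := by rw [← A.inc g, A.p_apply_inv]; exact hx
  rw [A.p_mul, A.p_mul, hh _ this, A.p_apply_inv]

theorem ker_conj_self {g h : G} {C : B} (hg : g ∈ A.stB C) (hh : h ∈ A.ker C) : g * h * g⁻¹ ∈ A.ker C := by
  have := A.ker_conj (g := g) hh
  rwa [show A.b g C = C from hg] at this

end DAct

end

end CfsgLib.AxD
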