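import Cfsg.Agent.Lib.AxialDesign.Kernel

set_option autoImplicit false
set_option linter.unusedSectionVars false

/-!
Parameters, lines of blocks, and the centre of a fixed point free axial automorphism.
-/

namespace CfsgLib.AxD

universe u v w

open scoped Classical

noncomputable section

/-- The order. -/
def Des.t {P : Type u} {B : Type v} [Fintype P] [Fintype B] (D : Des P B) : ℕ := (D.k - 1) / D.lam

namespace DAct

variable {P : Type u} {B : Type v} [Fintype P] [Fintype B] {D : Des P B} {G : Type w} [Group G] {A : DAct D G}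

theorem card_sdiff_block {C E : B} (hE : E ≠ C) : (D.pts E \ D.pts C).card = D.a := by
  rw [← Finset.sdiff_inter_self_left, Finset.card_sdiff_of_subset Finset.inter_subset_left, D.pts_card,
    D.inter_pts_card hE]
  have := D.k_eq; omega

theorem exists_not_on {C E : B} (hE : E ≠ C) : ∃ x, D.I x E ∧ ¬ D.I x C := by
  obtain ⟨x, hx⟩ : (D.pts E \ D.pts C).Nonempty :=
    Finset.card_pos.mp (by rw [card_sdiff_block hE]; have := D.two_le_a; omega)
  exact ⟨x, by simpa using hx⟩

/-- The parameters are those of a projective space. -/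
theorem Axial.params (hA : A.Axial) {C E : B} (hE : E ≠ C) :
    D.k = 1 + D.t * D.lam ∧ (A.borb C E).card = D.t ∧ Fintype.card P = D.k + D.t * D.a := by
  obtain ⟨x, hxE, hxC⟩ := exists_not_on (D := D) hE
  have hsub : ((A.korb C x).filter fun y => D.I y E) = D.pts E \ D.pts C := by
    refine Finset.Subset.antisymm (fun y hy => ?_) fun y hy => ?_
    · simp only [Finset.mem_filter, Finset.mem_sdiff, D.mem_pts] at hy ⊢
      exact ⟨hy.2, A.korb_off hxC hy.1⟩
    · exact Finset.mem_filter.mpr ⟨hA.orbit_full hE hxC hxE hy, D.mem_pts.mp (Finset.mem_sdiff.mp hy).1⟩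
  have h1 := hA.orbit_meet hE hxC hxE
  have h2 := hA.orbit_blocks hE hxC hxE
  rw [hsub, card_sdiff_block hE] at h1 h2
  have hall : A.korb C x = (D.pts C)ᶜ := by
    ext y
    simp only [mem_korb, Finset.mem_compl, D.mem_pts]
    exact ⟨fun h => A.korb_off hxC (A.mem_korb.mpr h), fun h => hA.transitive hxC h⟩
  have h3 : (A.korb C x).card + D.k = Fintype.card P := by
    rw [hall, Finset.card_compl, D.pts_card]; have := D.k_lt; omega
  set t := (A.borb C E).card
  rw [← h1] at h2 h3
  have hk := D.k_eq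
  have ha := D.two_le_a
  have hk1 : D.k = 1 + t * D.lam := by
    have : D.a * (1 + t * D.lam) = D.a * D.k := by nlinarith
    exact (Nat.eq_of_mul_eq_mul_left (by omega) this).symm
  have ht : D.t = t := by
    rw [Des.t, hk1, Nat.add_sub_cancel_left, Nat.mul_div_cancel _ (by have := D.one_le_lam; omega)]
  exact ⟨ht ▸ hk1, ht.symm, by rw [ht]; omega⟩

theorem exists_ne_block (D : Des P B) (C : B) : ∃ E : B, E ≠ C := by
  refine Fintype.exists_ne_of_one_lt_card ?_ C
  rw [D.card_B]; have := D.k_lt; omega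

theorem Axial.k_eq_t (hA : A.Axial) : D.k = 1 + D.t * D.lam := by
  obtain ⟨C⟩ : Nonempty B := Fintype.card_pos_iff.mp (by rw [D.card_B]; have := D.k_lt; omega)
  obtain ⟨E, hE⟩ := exists_ne_block D C
  exact (hA.params hE).1

theorem Axial.card_P (hA : A.Axial) : Fintype.card P = D.k + D.t * D.a := by
  obtain ⟨C⟩ : Nonempty B := Fintype.card_pos_iff.mp (by rw [D.card_B]; have := D.k_lt; omega)
  obtain ⟨E, hE⟩ := exists_ne_block D C
  exact (hA.params hE).2.2

theorem Axial.two_le_t (hA : A.Axial) : 2 ≤ D.t := by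
  obtain ⟨C⟩ : Nonempty B := Fintype.card_pos_iff.mp (by rw [D.card_B]; have := D.k_lt; omega)
  obtain ⟨E, hE⟩ := exists_ne_block D C
  rw [← (hA.params hE).2.1]
  exact hA.one_lt_t hE

theorem mem_above {C E F : B} : F ∈ above C E D ↔ F ≠ C ∧ D.pts C ∩ D.pts E ⊆ D.pts F := by simp [above]

theorem self_mem_above {C E : B} (h : E ≠ C) : E ∈ above C E D :=
  mem_above.mpr ⟨h, Finset.inter_subset_right⟩

theorem Axial.card_above (hA : A.Axial) {C E : B} (h : E ≠ C) : (above C E D).card = D.t := by
  rw [hA.above_eq h]; exact (hA.params h).2.1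

theorem above_meet {C E F : B} (hE : E ≠ C) (h : F ∈ above C E D) : D.pts C ∩ D.pts F = D.pts C ∩ D.pts E := by
  rw [mem_above] at h
  exact (Finset.eq_of_subset_of_card_le (Finset.subset_inter Finset.inter_subset_left h.2)
    (by rw [D.inter_pts_card hE.symm, D.inter_pts_card h.1.symm])).symm

theorem above_eq_of_mem {C E F : B} (hE : E ≠ C) (h : F ∈ above C E D) : above C F D = above C E D := by
  ext Z
  rw [mem_above, mem_above, above_meet hE h]

/-- Two blocks above the same meet share only that meet. -/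
theorem above_common {C E F F' : B} (hE : E ≠ C) (h : F ∈ above C E D) (h' : F' ∈ above C E D) (hne : F ≠ F')
    {x : P} (h1 : D.I x F) (h2 : D.I x F') : D.I x C := by
  have hsub : D.pts C ∩ D.pts E ⊆ D.pts F ∩ D.pts F' :=
    Finset.subset_inter (mem_above.mp h).2 (mem_above.mp h').2
  have heq := Finset.eq_of_subset_of_card_le hsub (by rw [D.inter_pts_card hne, D.inter_pts_card hE.symm])
  have : x ∈ D.pts C ∩ D.pts E := heq ▸ (by simp [h1, h2])
  simpa using (Finset.mem_inter.mp this).1

/-- Every point off a block lies on a block above each meet. -/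
theorem Axial.cover (hA : A.Axial) {C E : B} (hE : E ≠ C) {x : P} (hx : ¬ D.I x C) :
    ∃ F ∈ above C E D, D.I x F := by
  obtain ⟨y, hyE, hyC⟩ := exists_not_on (D := D) hE
  obtain ⟨g, hg, rfl⟩ := hA.transitive hyC hx
  refine ⟨A.b g E, ?_, (A.inc g y E).mpr hyE⟩
  rw [hA.above_eq hE]
  exact A.mem_borb.mpr ⟨g, hg, rfl⟩

/-- Some nontrivial element of every kernel fixes no point off the block. -/
theorem Axial.exists_fpf (hA : A.Axial) (C : B) : ∃ g ∈ A.ker C, g ≠ 1 ∧ A.off C g = ∅ := by
  haveI := A.finite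
  haveI := Fintype.ofFinite G
  by_contra! hno
  set KF := Finset.univ.filter (· ∈ A.ker C)
  set κ := KF.card
  obtain ⟨x, hx⟩ : ((D.pts C)ᶜ).Nonempty :=
    Finset.card_pos.mp (by rw [Finset.card_compl, D.pts_card]; have := D.k_lt; omega)
  rw [Finset.mem_compl, D.mem_pts] at hx
  set σ := (A.korb C x).card
  have hσ : σ = ((D.pts C)ᶜ).card := by
    refine congrArg Finset.card ?_
    ext y
    simp only [mem_korb, Finset.mem_compl, D.mem_pts]
    exact ⟨fun h => A.korb_off hx (A.mem_korb.mpr h), fun h => hA.transitive hx h⟩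
  have hone : ∀ g ∈ KF, g ≠ 1 → (A.off C g).card = 1 := fun g hg hg1 => by
    have hg' : g ∈ A.ker C := by simpa [KF] using hg
    have := A.off_le_one hg' hg1
    have := Finset.card_pos.mpr (hno g hg' hg1)
    omega
  have hsum : σ * ∑ g ∈ KF, (A.off C g).card = σ * κ := by
    simp only [off, Fp, Finset.filter_filter, Finset.card_filter]
    rw [Finset.sum_comm, Finset.mul_sum]
    have : ∀ y, σ * (∑ g ∈ KF, if A.p g y = y ∧ ¬ D.I y C then 1 else 0) = if ¬ D.I y C then κ else 0 := fun y => by
      by_cases hy : D.I y C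
      · simp [hy]
      · have hc := A.coset_count_p (C := C) 1 y
        simp only [one_mul, inv_one, map_one, Equiv.Perm.coe_one, id_eq, A.self_mem_korb, if_true] at hc
        rw [hA.sigma_eq hx hy] at hc
        rw [if_pos hy, Finset.sum_boole, Nat.cast_id, mul_comm]
        simp only [hy, not_false_eq_true, and_true]
        exact hc
    rw [Finset.sum_congr rfl fun y _ => this y, ← Finset.sum_filter, Finset.sum_const, smul_eq_mul, hσ]
    congr 2
    ext y; simp
  have h1 : (1 : G) ∈ KF := by simp [KF, one_mem]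
  have h2 : ∑ g ∈ KF, (A.off C g).card = σ + (κ - 1) := by
    rw [← Finset.add_sum_erase _ _ h1, Finset.sum_congr rfl fun g hg =>
      hone g (Finset.mem_of_mem_erase hg) (Finset.ne_of_mem_erase hg), Finset.sum_const,
      Finset.card_erase_of_mem h1, smul_eq_mul, mul_one, hσ]
    congr 2
    ext y; simp [off]
  have hσpos : 0 < σ := Finset.card_pos.mpr ⟨x, A.self_mem_korb C x⟩
  rw [h2] at hsum
  have h3 := Nat.eq_of_mul_eq_mul_left hσpos hsum
  have : 0 < κ := Finset.card_pos.mpr ⟨1, h1⟩
  have : 2 ≤ σ := by rw [hσ, Finset.card_compl, D.pts_card]; have := D.k_lt; omega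
  omega

/-- The line of blocks through two fixed blocks is fixed. -/
theorem fixed_line_aux {C : B} {g : G} (hg : g ∈ A.ker C) {X Y : B} (hXY : Y ≠ X) (hX : A.b g X = X)
    (hY : A.b g Y = Y) (hn : ¬ D.pts X ∩ D.pts Y ⊆ D.pts C) {F : B} (hF : F ∈ above X Y D) : A.b g F = F := by
  by_contra hne
  refine hn fun z hz => ?_
  simp only [Finset.mem_inter, D.mem_pts] at hz ⊢
  have hz' : D.I (A.p g⁻¹ z) X ∧ D.I (A.p g⁻¹ z) Y := by
    refine ⟨?_, ?_⟩
    · rw [← A.inc g, A.p_apply_inv, hX]; exact hz.1
    · rw [← A.inc g, A.p_apply_inv, hY]; exact hz.2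
  have h1 : D.I z F := by simpa using (mem_above.mp hF).2 (by simp [hz.1, hz.2])
  have h2 : D.I (A.p g⁻¹ z) F :=
    D.mem_pts.mp ((mem_above.mp hF).2 (Finset.mem_inter.mpr ⟨D.mem_pts.mpr hz'.1, D.mem_pts.mpr hz'.2⟩))
  refine A.common_on_axis hg hne h1 ?_
  rw [← A.p_apply_inv g z, A.inc]
  exact h2

theorem Axial.fixed_axis_line (hA : A.Axial) {C : B} {g : G} (hg : g ∈ A.ker C) (hfpf : A.off C g = ∅) {X : B}
    (hX : X ≠ C) (hfix : A.b g X = X) {F : B} (hF : F ∈ above X C D) : A.b g F = F := by
  set c := ((above X C D).filter fun F => A.b g F = F).card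
  set R := (A.Fb g).filter fun Y => Y ≠ X ∧ Y ∉ above X C D
  have hRdvd : (A.borb X C).card ∣ R.card := by
    refine hA.t_dvd hX.symm R (by simp [R]) fun k hk Y hY => ?_
    simp only [R, Finset.mem_filter, mem_Fb] at hY ⊢
    obtain ⟨hgY, hYX, hYn⟩ := hY
    have hmem : A.b k Y ∈ above X Y D := by rw [hA.above_eq hYX]; exact A.mem_borb.mpr ⟨k, hk, rfl⟩
    refine ⟨fixed_line_aux hg hYX hfix hgY (fun hsub => hYn ?_) hmem, (mem_above.mp hmem).1, fun hn => hYn ?_⟩
    · rw [mem_above]
      refine ⟨hYX, ?_⟩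
      rw [← Finset.eq_of_subset_of_card_le (Finset.subset_inter Finset.inter_subset_left hsub)
        (by rw [D.inter_pts_card hX, D.inter_pts_card hYX.symm])]
      exact Finset.inter_subset_right
    · rw [← above_eq_of_mem hX.symm hn, above_eq_of_mem hYX hmem]
      exact self_mem_above hYX
  have hC : C ∈ (above X C D).filter fun F => A.b g F = F :=
    Finset.mem_filter.mpr ⟨self_mem_above hX.symm, A.ker_le_stB C hg⟩
  have hcard := A.card_Fb_axial hg
  rw [hfpf, Finset.card_empty, add_zero] at hcard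
  have hsplit : (A.Fb g).card = 1 + c + R.card := by
    have e : A.Fb g = insert X (((above X C D).filter fun F => A.b g F = F) ∪ R) := by
      ext Y
      simp only [R, Finset.mem_insert, Finset.mem_union, Finset.mem_filter, mem_Fb]
      constructor
      · intro hY
        by_cases h1 : Y = X
        · exact Or.inl h1
        · by_cases h2 : Y ∈ above X C D
          · exact Or.inr (Or.inl ⟨h2, hY⟩)
          · exact Or.inr (Or.inr ⟨hY, h1, h2⟩)
      · rintro (rfl | ⟨-, hY⟩ | ⟨hY, -⟩)
        exacts [hfix, hY, hY]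
    rw [e, Finset.card_insert_of_notMem, Finset.card_union_of_disjoint]
    · omega
    · exact Finset.disjoint_left.mpr fun z h1 h2 => (Finset.mem_filter.mp h2).2.2 (Finset.mem_filter.mp h1).1
    · simp only [R, Finset.mem_union, Finset.mem_filter]
      rintro (⟨h1, -⟩ | ⟨-, h2, -⟩)
      exacts [(mem_above.mp h1).1 rfl, h2 rfl]
  rw [(hA.params hX.symm).2.1] at hRdvd
  have hc1 : 1 ≤ c := Finset.card_pos.mpr ⟨C, hC⟩
  have hct : c ≤ D.t := (Finset.card_filter_le _ _).trans (hA.card_above hX.symm).le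
  have hk := hA.k_eq_t
  have hdvd : D.t ∣ c := by
    refine (Nat.dvd_add_left hRdvd (b := c)).mp ⟨D.lam, ?_⟩
    omega
  have hle := Nat.le_of_dvd hc1 hdvd
  have heq : ((above X C D).filter fun F => A.b g F = F) = above X C D :=
    Finset.eq_of_subset_of_card_le (Finset.filter_subset _ _) (by rw [hA.card_above hX.symm]; exact hle)
  rw [← heq] at hF
  exact (Finset.mem_filter.mp hF).2

/-- The line through two fixed blocks is fixed. -/
theorem Axial.fixed_line (hA : A.Axial) {C : B} {g : G} (hg : g ∈ A.ker C) (hfpf : A.off C g = ∅) {X Y : B}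
    (hXY : Y ≠ X) (hX : A.b g X = X) (hY : A.b g Y = Y) {F : B} (hF : F ∈ above X Y D) : A.b g F = F := by
  by_cases hsub : D.pts X ∩ D.pts Y ⊆ D.pts C
  swap
  · exact fixed_line_aux hg hXY hX hY hsub hF
  rcases eq_or_ne X C with rfl | hXC
  · -- the line passes through the axis
    rcases eq_or_ne F Y with rfl | hFY
    · exact hY
    · refine hA.fixed_axis_line hg hfpf hXY hY (mem_above.mpr ⟨hFY, ?_⟩)
      rw [Finset.inter_comm]; exact (mem_above.mp hF).2
  · refine hA.fixed_axis_line hg hfpf hXC hX ?_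
    have heq := Finset.eq_of_subset_of_card_le (Finset.subset_inter Finset.inter_subset_left hsub)
      (by rw [D.inter_pts_card hXC, D.inter_pts_card hXY.symm])
    rw [mem_above, ← heq]
    exact mem_above.mp hF

/-- A fixed point free axial automorphism has a centre. -/
theorem Axial.centre (hA : A.Axial) {C : B} {g : G} (hg : g ∈ A.ker C) (hfpf : A.off C g = ∅) :
    ∃ x, D.I x C ∧ A.Fb g = D.blks x := by
  have hcard := A.card_Fb_axial hg
  rw [hfpf, Finset.card_empty, add_zero] at hcard
  have key : ∀ x ∈ D.pts C, A.Fb g = D.blks x ∨ ((A.Fb g).filter fun E => D.I x E).card = D.lam := by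
    intro x hx
    by_cases hall : ∀ Y ∈ A.Fb g, D.I x Y
    · exact Or.inl (Finset.eq_of_subset_of_card_le (fun Y hY => D.mem_blks.mpr (hall Y hY)) (by rw [hcard, D.blks_card]))
    push Not at hall
    obtain ⟨X, hX, hxX⟩ := hall
    rw [mem_Fb] at hX
    right
    set S := (A.Fb g).filter fun E => D.I x E
    have hSX : ∀ E ∈ S, E ≠ X := fun E hE e => hxX (e ▸ (Finset.mem_filter.mp hE).2)
    have hun : (A.Fb g).erase X = S.biUnion fun E => above X E D := by
      ext Y
      simp only [Finset.mem_erase, Finset.mem_biUnion]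
      constructor
      · rintro ⟨hYX, hY⟩
        rw [mem_Fb] at hY
        obtain ⟨E, hE, hxE⟩ := hA.cover hYX hxX
        refine ⟨E, Finset.mem_filter.mpr ⟨(mem_Fb A).mpr (hA.fixed_line hg hfpf hYX hX hY hE), hxE⟩, ?_⟩
        rw [above_eq_of_mem hYX hE]
        exact self_mem_above hYX
      · rintro ⟨E, hE, hY⟩
        exact ⟨(mem_above.mp hY).1, (mem_Fb A).mpr (hA.fixed_line hg hfpf (hSX E hE) hX
          ((mem_Fb A).mp (Finset.mem_filter.mp hE).1) hY)⟩
    have hdisj : Set.PairwiseDisjoint (↑S : Set B) fun E => above X E D := by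
      intro E hE E' hE' hne
      simp only [Function.onFun, Finset.disjoint_left]
      intro Y h1 h2
      have e : above X E D = above X E' D :=
        (above_eq_of_mem (hSX E hE) h1).symm.trans (above_eq_of_mem (hSX E' hE') h2)
      refine hxX (above_common (hSX E hE) (self_mem_above (hSX E hE)) (e ▸ self_mem_above (hSX E' hE')) hne ?_ ?_)
      · exact (Finset.mem_filter.mp hE).2
      · exact (Finset.mem_filter.mp hE').2
    have h := congrArg Finset.card hun
    rw [Finset.card_biUnion hdisj, Finset.card_erase_of_mem ((mem_Fb A).mpr hX), hcard,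
      Finset.sum_const_nat fun E hE => hA.card_above (hSX E hE), hA.k_eq_t, Nat.add_sub_cancel_left,
      mul_comm S.card] at h
    exact (Nat.eq_of_mul_eq_mul_left (by have := hA.two_le_t; omega) h).symm
  by_contra hno
  push Not at hno
  obtain ⟨h1, -⟩ := A.axis_count hg
  rw [hfpf, Finset.card_empty, Finset.sum_congr rfl fun x hx =>
    (key x hx).resolve_left (hno x (D.mem_pts.mp hx)), Finset.sum_const, D.pts_card, smul_eq_mul] at h1
  push_cast at h1
  have := D.two_le_a
  nlinarith

end DAct

end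

end CfsgLib.AxD
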