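import Cfsg.Agent.Lib.AxialDesign.Slopes

set_option autoImplicit false
set_option linter.unusedSectionVars false

/-!
A design with all elations and meets of size at least two is the design of points and hyperplanes
of a projective space.
-/

namespace CfsgLib.AxD

universe u v w

open scoped Classical

noncomputable section

variable {P : Type u} {B : Type v} [Fintype P] [Fintype B] {D : Des P B} {G : Type w} [Group G]

/-- The design is that of points and hyperplanes of a projective space over a finite field. -/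
def Des.Linear (D : Des P B) : Prop :=
  ∃ (m : ℕ) (F : Type) (_ : Field F) (_ : Fintype F) (φ : P ≃ Projectivization F (Fin (m + 1) → F)),
    2 ≤ m ∧ ∀ C, ∃ f : (Fin (m + 1) → F) →ₗ[F] F, f ≠ 0 ∧ ∀ x, D.I x C ↔ (φ x).submodule ≤ LinearMap.ker f

theorem submodule_le_ker {K V : Type*} [Field K] [AddCommGroup V] [Module K V] (f : V →ₗ[K] K) {v : V}
    (hv : v ≠ 0) : (Projectivization.mk K v hv).submodule ≤ LinearMap.ker f ↔ f v = 0 := by
  rw [Projectivization.submodule_mk, Submodule.span_singleton_le_iff_mem, LinearMap.mem_ker]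

theorem funLeft_cons {K : Type*} [Field K] {n : ℕ} (r : K) (b : Fin n → K) :
    LinearMap.funLeft K K Fin.succ (Fin.cons r b) = b :=
  funext fun i => Fin.cons_succ (α := fun _ => K) r b i

namespace Basis

variable {A : DAct D G} (S : Basis A) {F : Type} [Field F] [Fintype F] (κ : F →+* AddMonoid.End S.U)

/-- Coordinates of translations. -/
def crd (u₀ : S.U) : (Fin S.m → F) →+ S.toFrame.V :=
  AddMonoidHom.mk' (fun a => ∑ i, S.ι i (κ (a i) u₀)) fun a b => by
    rw [← Finset.sum_add_distrib]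
    refine Finset.sum_congr rfl fun i _ => ?_
    rw [Pi.add_apply, map_add κ]
    exact map_add (S.ι i) _ _

theorem crd_apply (u₀ : S.U) (a : Fin S.m → F) : S.crd κ u₀ a = ∑ i, S.ι i (κ (a i) u₀) := rfl

theorem crd_single (u₀ : S.U) (i : Fin S.m) (r : F) : S.crd κ u₀ (Pi.single i r) = S.ι i (κ r u₀) := by
  rw [crd_apply, Finset.sum_eq_single i]
  · simp
  · intro j _ hj; simp [hj]
  · simp

variable (hκ : Function.Injective κ) (hcard : Nat.card F = D.t)
  (hS : ∀ i j, i ≠ j → ∀ s, κ s ∈ S.slopes i j)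

include hκ hcard hS

theorem crd_bij {u₀ : S.U} (hu₀ : u₀ ≠ 0) : Function.Bijective (S.crd κ u₀) := by
  haveI := S.toFrame.finiteV
  refine (Nat.bijective_iff_injective_and_card _).mpr ⟨(injective_iff_map_eq_zero _).mpr fun a ha => ?_, ?_⟩
  · have h1 := (injective_iff_map_eq_zero _).mp S.bij.1 (fun i => ⟨S.ι i (κ (a i) u₀), S.ι_mem i _⟩) ha
    funext i
    have h2 : κ (a i) u₀ = 0 :=
      S.ι_inj i ((congrArg Subtype.val (congrFun h1 i)).trans (map_zero (S.ι i)).symm)
    by_contra h0
    obtain ⟨k, hk, -⟩ := S.exists_third i i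
    exact hu₀ (S.slopes_inj hk (hS k i hk (a i)) (fun e => h0 (hκ (e.trans (map_zero κ).symm))) h2)
  · rw [Nat.card_fun, Nat.card_fin, hcard, S.toFrame.card_V, ← S.card_eq]

/-- A transvection in coordinates. -/
theorem exists_tv (u₀ : S.U) {i j : Fin S.m} (hij : i ≠ j) (s : F) : ∃ g : A.stB S.C, ∀ a,
    S.toFrame.conj g (S.crd κ u₀ a) = S.crd κ u₀ (a + Pi.single i (s * a j)) := by
  obtain ⟨g, hg, h⟩ := hS i j hij s
  refine ⟨S.tv hg, fun a => ?_⟩
  rw [map_add, crd_single, crd_apply, map_sum,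
    ← Finset.add_sum_erase _ _ (Finset.mem_univ j), h,
    Finset.sum_congr rfl fun l hl => S.conj_fix_other hg (Finset.ne_of_mem_erase hl) (S.ι_mem l _),
    ← Finset.add_sum_erase _ _ (Finset.mem_univ j), map_mul]
  change _ + S.ι i (κ s (κ (a j) u₀)) + _ = _ + _ + S.ι i (κ s (κ (a j) u₀))
  abel

theorem exists_move (u₀ : S.U) (i : Fin S.m) (s : Fin S.m → F) (J : Finset (Fin S.m)) (hJ : i ∉ J) :
    ∃ g : A.stB S.C, ∀ a, S.toFrame.conj g (S.crd κ u₀ a) =
      S.crd κ u₀ (a + fun l => if l ∈ J then s l * a i else 0) := by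
  induction J using Finset.induction_on with
  | empty =>
    refine ⟨1, fun a => ?_⟩
    rw [Frame.conj_one]
    congr 1
    funext l; simp
  | insert j J hj ih =>
    obtain ⟨g, hg⟩ := ih fun h => hJ (Finset.mem_insert_of_mem h)
    obtain ⟨g', hg'⟩ := S.exists_tv κ hκ hcard hS u₀ (i := j) (j := i)
      (fun e => hJ (e ▸ Finset.mem_insert_self j J)) (s j)
    refine ⟨g' * g, fun a => ?_⟩
    rw [Frame.conj_mul, hg, hg']
    congr 1
    funext l
    have hiJ : i ∉ J := fun h => hJ (Finset.mem_insert_of_mem h)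
    by_cases hl : l = j
    · subst hl; simp [hj, hiJ]
    · simp [hl]

/-- Centres are lines in coordinates. -/
theorem crd_smul_mem {u₀ : S.U} (hu₀ : u₀ ≠ 0) {z : P} {a : Fin S.m → F} (ha : a ≠ 0)
    (hmem : S.crd κ u₀ a ∈ S.toFrame.K z) (r : F) : S.crd κ u₀ (r • a) ∈ S.toFrame.K z := by
  obtain ⟨i, hi⟩ := Function.ne_iff.mp ha
  obtain ⟨g, hg⟩ := S.exists_move κ hκ hcard hS u₀ i (fun l => a l / a i) (Finset.univ.erase i)
    (Finset.notMem_erase _ _)
  have him : ∀ c, S.crd κ u₀ (c • a) ∈ S.toFrame.K (A.p (g : G) (S.x i)) := fun c => by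
    have h1 := S.toFrame.conj_K g (S.ι_mem i (κ (c * a i) u₀))
    rw [← S.crd_single κ, hg] at h1
    convert h1 using 2
    funext l
    by_cases hl : l = i
    · subst hl; simp
    · have : a i ≠ 0 := hi
      simp [hl]
      field_simp
  have h1 := him 1
  rw [one_smul] at h1
  by_cases hz : A.p (g : G) (S.x i) = z
  · exact hz ▸ him r
  · exact absurd ((S.crd_bij κ hκ hcard hS hu₀).1 ((S.toFrame.K_disj hz h1 hmem).trans (map_zero _).symm)) ha

theorem linear : D.Linear := by
  haveI := S.nontrivialU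
  haveI := S.toFrame.finiteV
  obtain ⟨u₀, hu₀⟩ := exists_ne (0 : S.U)
  have hc := S.crd_bij κ hκ hcard hS hu₀
  set c := S.crd κ u₀
  -- directions of the centres
  have hdir : ∀ z, D.I z S.C → ∃ a : Fin S.m → F, a ≠ 0 ∧ c a ∈ S.toFrame.K z := fun z hz => by
    obtain ⟨v, hv, hv0⟩ := S.toFrame.exists_ne_zero_K hz
    obtain ⟨a, rfl⟩ := hc.2 v
    exact ⟨a, fun e => hv0 (by rw [e, map_zero]), hv⟩
  choose dir hdir0 hdirK using hdir
  have hline : ∀ z (hz : D.I z S.C) b, c b ∈ S.toFrame.K z ↔ ∃ r : F, r • dir z hz = b := by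
    intro z hz b
    refine ⟨fun hb => ?_, fun ⟨r, e⟩ => e ▸ S.crd_smul_mem κ hκ hcard hS hu₀ (hdir0 z hz) (hdirK z hz) r⟩
    have hbij := (Nat.bijective_iff_injective_and_card fun r : F =>
      (⟨c (r • dir z hz), S.crd_smul_mem κ hκ hcard hS hu₀ (hdir0 z hz) (hdirK z hz) r⟩ : S.toFrame.K z)).mpr
      ⟨fun r r' e => smul_left_injective F (hdir0 z hz) (hc.1 (congrArg Subtype.val e)), by
        rw [hcard, S.toFrame.card_K hz]⟩
    obtain ⟨r, e⟩ := hbij.2 ⟨c b, hb⟩
    exact ⟨r, hc.1 (congrArg Subtype.val e)⟩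
  have hpt : ∀ z, ¬ D.I z S.C → ∃ a, S.toFrame.pt (c a) = z := fun z hz => by
    obtain ⟨v, rfl⟩ := S.toFrame.exists_pt hz
    obtain ⟨a, rfl⟩ := hc.2 v
    exact ⟨a, rfl⟩
  choose cd hcd using hpt
  let vec : P → (Fin (S.m + 1) → F) := fun z =>
    if h : D.I z S.C then Fin.cons 0 (dir z h) else Fin.cons 1 (cd z h)
  have hvec : ∀ z, vec z ≠ 0 := fun z e => by
    by_cases h : D.I z S.C
    · refine hdir0 z h (funext fun i => ?_)
      simpa [vec, h] using congrFun e i.succ
    · simpa [vec, h] using congrFun e 0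
  let φ₀ : P → Projectivization F (Fin (S.m + 1) → F) := fun z => Projectivization.mk F (vec z) (hvec z)
  have hφ : Function.Bijective φ₀ := by
    constructor
    · intro z w e
      obtain ⟨r, hr⟩ := (Projectivization.mk_eq_mk_iff' F _ _ (hvec z) (hvec w)).mp e
      have h0 := congrFun hr 0
      by_cases hz : D.I z S.C <;> by_cases hw : D.I w S.C <;>
        simp only [vec, dif_pos, dif_neg, hz, hw, not_false_eq_true, Pi.smul_apply, Fin.cons_zero, smul_eq_mul,
          mul_zero, mul_one, zero_ne_one] at h0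
      · have hd : r • dir w hw = dir z hz := funext fun i => by
          simpa [vec, hz, hw] using congrFun hr i.succ
        by_contra hne
        exact hdir0 z hz (hc.1 ((S.toFrame.K_disj hne (hdirK z hz) ((hline w hw _).mpr ⟨r, hd⟩)).trans
          (map_zero c).symm))
      · exfalso
        refine hvec z ?_
        rw [← hr, h0, zero_smul]
      · have hd : cd w hw = cd z hz := funext fun i => by
          simpa [vec, hz, hw, h0] using congrFun hr i.succ
        rw [← hcd z hz, ← hcd w hw, hd]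
    · intro p
      obtain ⟨w, hw, rfl⟩ : ∃ w, ∃ hw : w ≠ 0, Projectivization.mk F w hw = p :=
        ⟨p.rep, p.rep_nonzero, p.mk_rep⟩
      by_cases h0 : w 0 = 0
      · have ht : Fin.tail w ≠ 0 := fun e => hw (funext fun i => by
          refine Fin.cases h0 (fun j => ?_) i
          exact congrFun e j)
        obtain ⟨z, hz, hzK⟩ := S.toFrame.exists_K (c (Fin.tail w))
        obtain ⟨r, hr⟩ := (hline z hz _).mp hzK
        refine ⟨z, ((Projectivization.mk_eq_mk_iff' F _ _ hw (hvec z)).mpr ⟨r, ?_⟩).symm⟩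
        funext i
        refine Fin.cases ?_ (fun j => ?_) i
        · simp [vec, hz, h0]
        · have := congrFun hr j
          simpa [vec, hz, Fin.tail] using this
      · set z := S.toFrame.pt (c ((w 0)⁻¹ • Fin.tail w))
        have hz : ¬ D.I z S.C := S.toFrame.pt_off _
        refine ⟨z, ((Projectivization.mk_eq_mk_iff' F _ _ hw (hvec z)).mpr ⟨w 0, ?_⟩).symm⟩
        have hcz : cd z hz = (w 0)⁻¹ • Fin.tail w := hc.1 (S.toFrame.pt_inj (hcd z hz))
        funext i
        refine Fin.cases ?_ (fun j => ?_) i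
        · simp [vec, hz]
        · simp [vec, hz, hcz, Fin.tail, h0]
  refine ⟨S.m, F, inferInstance, inferInstance, Equiv.ofBijective φ₀ hφ, by have := S.hm; omega, fun E => ?_⟩
  have hrep : ∀ (f : (Fin (S.m + 1) → F) →ₗ[F] F) x,
      (Equiv.ofBijective φ₀ hφ x).submodule ≤ LinearMap.ker f ↔ f (vec x) = 0 := fun f x =>
    submodule_le_ker f (hvec x)
  by_cases hEC : E = S.C
  · refine ⟨LinearMap.proj 0, fun e => ?_, fun x => ?_⟩
    · simpa using LinearMap.congr_fun e (Pi.single 0 1)
    · rw [hrep, hEC]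
      by_cases h : D.I x S.C <;> simp [vec, h]
  -- the translations fixing the block form a hyperplane
  let W : Submodule F (Fin S.m → F) :=
    { carrier := {a | c a ∈ S.toFrame.stab E}
      zero_mem' := by simp
      add_mem' := fun {a b} ha hb => by
        simp only [Set.mem_ofPred_eq] at ha hb ⊢
        rw [map_add]; exact add_mem ha hb
      smul_mem' := fun r a ha => by
        simp only [Set.mem_ofPred_eq] at ha ⊢
        by_cases h : a = 0
        · simp [h]
        obtain ⟨z, hz, hzK⟩ := S.toFrame.exists_K (c a)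
        refine S.toFrame.K_le_stab (S.toFrame.meet_of_stab hz hzK (fun e => h ?_) ha)
          (S.crd_smul_mem κ hκ hcard hS hu₀ h hzK r)
        exact hc.1 (e.trans (map_zero c).symm) }
  have hWcard : Nat.card W = D.a := by
    rw [← S.toFrame.card_stab hEC]
    refine Nat.card_eq_of_bijective (fun a : W => (⟨c a.1, a.2⟩ : S.toFrame.stab E)) ⟨fun a b e => ?_, ?_⟩
    · exact Subtype.ext (hc.1 (Subtype.mk.inj e))
    · rintro ⟨v, hv⟩
      obtain ⟨a, rfl⟩ := hc.2 v
      exact ⟨⟨a, hv⟩, rfl⟩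
  have ht := S.hA.two_le_t
  have hWtop : W ≠ ⊤ := fun e => by
    rw [e, Nat.card_congr (Submodule.topEquiv (R := F) (M := Fin S.m → F)).toEquiv, Nat.card_fun, Nat.card_fin, hcard,
      S.card_eq] at hWcard
    have := D.two_le_a
    nlinarith
  obtain ⟨f, hf0, hWf⟩ := Submodule.exists_le_ker_of_lt_top W (lt_top_iff_ne_top.mpr hWtop)
  have hfW : ∀ a, f a = 0 ↔ a ∈ W := by
    haveI : Finite (LinearMap.ker f) := inferInstance
    have hfr : LinearMap.range f = ⊤ := LinearMap.range_eq_top.mpr (LinearMap.surjective_of_ne_zero hf0)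
    have h1 := Submodule.card_eq_card_quotient_mul_card (LinearMap.ker f)
    rw [Nat.card_congr (f.quotKerEquivRange.trans ((LinearEquiv.ofEq _ _ hfr).trans Submodule.topEquiv)).toEquiv,
      Nat.card_fun, Nat.card_fin, hcard, S.card_eq, mul_comm D.t] at h1
    have h2 : Nat.card (LinearMap.ker f) = D.a :=
      (Nat.eq_of_mul_eq_mul_left (show 0 < D.t by omega) (by linarith)).symm
    have heq : W = LinearMap.ker f := SetLike.coe_injective (Set.eq_of_subset_of_ncard_le hWf (by
      rw [← Nat.card_coe_set_eq, ← Nat.card_coe_set_eq]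
      exact le_of_eq (h2.trans hWcard.symm)) (Set.toFinite _))
    intro a
    rw [heq, LinearMap.mem_ker]
  obtain ⟨y, hyE, hyC⟩ := DAct.exists_not_on (D := D) hEC
  refine ⟨f.comp (LinearMap.funLeft F F Fin.succ) - f (cd y hyC) • LinearMap.proj 0, fun e => hf0 ?_, fun x => ?_⟩
  · refine LinearMap.ext fun a => ?_
    simpa [funLeft_cons] using LinearMap.congr_fun e (Fin.cons 0 a)
  · rw [hrep]
    have hval : ∀ r b, (f.comp (LinearMap.funLeft F F Fin.succ) - f (cd y hyC) • LinearMap.proj 0 :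
        (Fin (S.m + 1) → F) →ₗ[F] F) (Fin.cons r b) = f b - f (cd y hyC) * r := fun r b => by
      simp [funLeft_cons]
    by_cases hx : D.I x S.C
    · simp only [vec, dif_pos hx, hval, mul_zero, sub_zero, hfW]
      change D.I x E ↔ c _ ∈ S.toFrame.stab E
      exact ⟨fun h => S.toFrame.K_le_stab h (hdirK x hx),
        S.toFrame.meet_of_stab hx (hdirK x hx) fun e => hdir0 x hx (hc.1 (e.trans (map_zero c).symm))⟩
    · simp only [vec, dif_neg hx, hval, mul_one]
      rw [sub_eq_zero, ← sub_eq_zero, ← map_sub, hfW]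
      change D.I x E ↔ c _ ∈ S.toFrame.stab E
      rw [map_sub]
      conv_lhs => rw [← hcd x hx]
      exact S.toFrame.pt_mem_iff (by rw [hcd y hyC]; exact hyE)

end Basis

theorem Axial.linear_of_two_le {A : DAct D G} (hA : A.Axial) (hlam : 2 ≤ D.lam) : D.Linear := by
  obtain ⟨C⟩ : Nonempty B := Fintype.card_pos_iff.mp (by rw [D.card_B]; have := D.k_lt; omega)
  obtain ⟨O, hO⟩ : ((D.pts C)ᶜ).Nonempty :=
    Finset.card_pos.mp (by rw [Finset.card_compl, D.pts_card]; have := D.k_lt; omega)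
  rw [Finset.mem_compl, D.mem_pts] at hO
  obtain ⟨S⟩ := (⟨hA, C, O, hO⟩ : Frame A).exists_Basis hlam
  obtain ⟨F, iF, iFF, κ, hκ, hcard, hS⟩ := S.exists_field
  exact S.linear κ hκ hcard hS

end

end CfsgLib.AxD
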