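import Cfsg.Agent.Lib.AxialDesign.Basic

set_option autoImplicit false
set_option linter.unusedSectionVars false

/-!
An automorphism fixing a block pointwise fixes at most one further point.
-/

namespace CfsgLib.AxD

universe u v w

open scoped Classical

noncomputable section

namespace DAct

variable {P : Type u} {B : Type v} [Fintype P] [Fintype B] {D : Des P B} {G : Type w} [Group G] (A : DAct D G)

variable {C₀ : B} {g : G}

theorem meet_axis (hg : g ∈ A.ker C₀) {E : B} {x : P} (hx : D.I x C₀) : D.I x (A.b g E) ↔ D.I x E := by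
  have := A.inc g x E
  rwa [hg x hx] at this

/-- A moved block and its image share only points of the axis. -/
theorem common_on_axis (hg : g ∈ A.ker C₀) {E : B} (hE : A.b g E ≠ E) {x : P} (h1 : D.I x E)
    (h2 : D.I x (A.b g E)) : D.I x C₀ := by
  have hE0 : E ≠ C₀ := fun e => hE (by rw [e]; exact A.ker_le_stB C₀ hg)
  have hsub : D.pts E ∩ D.pts C₀ ⊆ D.pts E ∩ D.pts (A.b g E) := fun y hy => by
    simp only [Finset.mem_inter, D.mem_pts] at hy ⊢
    exact ⟨hy.1, (A.meet_axis hg hy.2).mpr hy.1⟩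
  have heq := Finset.eq_of_subset_of_card_le hsub
    (by rw [D.inter_pts_card hE0, D.inter_pts_card (Ne.symm hE)])
  have : x ∈ D.pts E ∩ D.pts (A.b g E) := by simp [h1, h2]
  rw [← heq] at this
  simpa using (Finset.mem_inter.mp this).2

/-- Blocks through a moved point are fixed exactly when they contain its image. -/
theorem fixed_iff_image (hg : g ∈ A.ker C₀) {x : P} (hx : ¬ D.I x C₀) {E : B} (hE : D.I x E) :
    A.b g E = E ↔ D.I (A.p g x) E := by
  have h := (A.inc g x E).mpr hE
  refine ⟨fun e => by rwa [e] at h, fun h' => by_contra fun hne => hx ?_⟩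
  have h2 : D.I (A.p g x) C₀ := A.common_on_axis hg hne h' h
  have := (A.inc g x C₀).mp (by rw [show A.b g C₀ = C₀ from A.ker_le_stB C₀ hg]; exact h2)
  exact this

theorem fixed_count_moved (hg : g ∈ A.ker C₀) {x : P} (hx : ¬ D.I x C₀) (hm : A.p g x ≠ x) :
    ((A.Fb g).filter fun E => D.I x E).card = D.lam := by
  rw [← D.inter_blks_card (Ne.symm hm)]
  congr 1
  ext E
  simp only [Finset.mem_filter, mem_Fb, Finset.mem_inter, D.mem_blks]
  exact ⟨fun h => ⟨h.2, (A.fixed_iff_image hg hx h.2).mp h.1⟩, fun h => ⟨(A.fixed_iff_image hg hx h.1).mpr h.2, h.1⟩⟩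

theorem fixed_of_fixed_point (hg : g ∈ A.ker C₀) {x : P} (hx : ¬ D.I x C₀) (hf : A.p g x = x) {E : B}
    (hE : D.I x E) : A.b g E = E :=
  (A.fixed_iff_image hg hx hE).mpr (by rwa [hf])

theorem fixed_count_fixed (hg : g ∈ A.ker C₀) {x : P} (hx : ¬ D.I x C₀) (hf : A.p g x = x) :
    ((A.Fb g).filter fun E => D.I x E).card = D.k := by
  rw [← D.blks_card x]
  congr 1
  ext E
  simp only [Finset.mem_filter, mem_Fb, D.mem_blks]
  exact ⟨fun h => h.2, fun h => ⟨A.fixed_of_fixed_point hg hx hf h, h⟩⟩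

/-- The fixed points off the axis. -/
def off (C₀ : B) (g : G) : Finset P := (A.Fp g).filter fun x => ¬ D.I x C₀

theorem card_Fb_axial (hg : g ∈ A.ker C₀) : (A.Fb g).card = D.k + (A.off C₀ g).card := by
  rw [A.card_Fb, ← D.pts_card C₀,
    ← Finset.card_filter_add_card_filter_not (s := A.Fp g) (fun x => D.I x C₀)]
  congr 2
  ext x
  simp only [Finset.mem_filter, mem_Fp, D.mem_pts]
  exact ⟨fun h => h.2, fun h => ⟨hg x h, h⟩⟩

/-- The block counts along the axis of the fixed blocks. -/
theorem axis_count (hg : g ∈ A.ker C₀) :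
    ((∑ x ∈ D.pts C₀, ((A.Fb g).filter fun E => D.I x E).card : ℕ) : ℤ) =
      D.a + D.lam * D.k + D.lam * (A.off C₀ g).card ∧
    ((∑ x ∈ D.pts C₀, ((A.Fb g).filter fun E => D.I x E).card * ((A.Fb g).filter fun E => D.I x E).card : ℕ) : ℤ) =
      D.a * (D.k + (A.off C₀ g).card) + D.lam * (D.k + (A.off C₀ g).card) ^ 2 -
        (A.off C₀ g).card * D.k ^ 2 - D.lam * (D.k ^ 2 - D.a - D.lam * D.k - D.lam * (A.off C₀ g).card) := by
  set F := fun x => ((A.Fb g).filter fun E => D.I x E).card
  set j := (A.off C₀ g).card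
  have hsplit : ∀ φ : ℕ → ℕ, ∑ x, φ (F x) =
      ∑ x ∈ D.pts C₀, φ (F x) + j * φ D.k + (Fintype.card P - D.k - j) * φ D.lam := by
    intro φ
    rw [← Finset.sum_add_sum_compl (D.pts C₀) fun x => φ (F x), add_assoc]
    congr 1
    have hoff : A.off C₀ g ⊆ (D.pts C₀)ᶜ := fun x hx => by
      simp only [off, Finset.mem_filter] at hx
      simpa using hx.2
    have hcard : ((D.pts C₀)ᶜ \ A.off C₀ g).card = Fintype.card P - D.k - j := by
      rw [Finset.card_sdiff_of_subset hoff, Finset.card_compl, D.pts_card]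
    rw [← Finset.sum_sdiff hoff, add_comm,
      Finset.sum_congr rfl fun x hx => (show φ (F x) = φ D.k by
        simp only [off, Finset.mem_filter, mem_Fp] at hx
        simp only [F, A.fixed_count_fixed hg hx.2 hx.1]), Finset.sum_const,
      Finset.sum_congr rfl fun x hx => (show φ (F x) = φ D.lam by
        simp only [off, Finset.mem_sdiff, Finset.mem_compl, D.mem_pts, Finset.mem_filter, mem_Fp, not_and, not_not] at hx
        simp only [F, A.fixed_count_moved hg hx.1 fun e => hx.1 (hx.2 e)]),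
      Finset.sum_const, hcard, smul_eq_mul, smul_eq_mul]
  have hvk : ((Fintype.card P - D.k - j : ℕ) : ℤ) = Fintype.card P - D.k - j := by
    have h1 := D.k_lt
    have h2 : j ≤ Fintype.card P - D.k := by
      rw [← D.pts_card C₀, ← Finset.card_compl]
      exact Finset.card_le_card fun x hx => by
        simp only [off, Finset.mem_filter] at hx
        simpa using hx.2
    omega
  have hv : (D.k : ℤ) * D.k = D.a + D.lam * Fintype.card P := by exact_mod_cast D.k_mul
  have hw : ((A.Fb g).card : ℤ) = D.k + j := by exact_mod_cast A.card_Fb_axial hg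
  have h1 := hsplit id
  have h2 := hsplit fun n => n * n
  rw [show ∑ x, id (F x) = (A.Fb g).card * D.k from D.sum_count (A.Fb g)] at h1
  rw [show ∑ x, F x * F x = _ from D.sum_sq (A.Fb g)] at h2
  simp only [id_eq] at h1
  zify at h1 h2
  rw [hw, hvk] at h1 h2
  push_cast
  constructor
  · linear_combination -h1 + hv
  · linear_combination -h2 + (D.lam : ℤ) * hv

/-- An axial automorphism fixes at most one point off its axis. -/
theorem off_le_one (hg : g ∈ A.ker C₀) (hg1 : g ≠ 1) : (A.off C₀ g).card ≤ 1 := by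
  by_contra hj
  push Not at hj
  obtain ⟨h1, h2⟩ := A.axis_count hg
  set j := (A.off C₀ g).card
  have h3 := sq_sum_le_card_mul_sum_sq (s := D.pts C₀) (f := fun x => (((A.Fb g).filter fun E => D.I x E).card : ℤ))
  have h4 : (∑ x ∈ D.pts C₀, (((A.Fb g).filter fun E => D.I x E).card : ℤ)) ^ 2 ≤
      (D.k : ℤ) * ∑ x ∈ D.pts C₀, (((A.Fb g).filter fun E => D.I x E).card : ℤ) * (((A.Fb g).filter fun E => D.I x E).card : ℤ) := by
    rw [D.pts_card] at h3
    simpa only [pow_two] using h3
  push_cast at h1 h2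
  rw [h1, h2] at h4
  have hk : (D.a : ℤ) + D.lam = D.k := by exact_mod_cast D.k_eq
  have h5 : (0 : ℤ) ≤ D.a * (((j : ℤ) - 1) * (D.lam * j - D.a * (D.k - 1))) := by
    rw [← hk] at h4 ⊢
    nlinarith [h4]
  have ha : (0 : ℤ) < D.a := by have := D.two_le_a; omega
  have hj' : (0 : ℤ) < (j : ℤ) - 1 := by omega
  have h6 : (0 : ℤ) ≤ D.lam * j - D.a * (D.k - 1) :=
    nonneg_of_mul_nonneg_right (nonneg_of_mul_nonneg_right h5 ha) hj'
  have hv : (D.k : ℤ) * D.k = D.a + D.lam * Fintype.card P := by exact_mod_cast D.k_mul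
  have hl : (0 : ℤ) < D.lam := by have := D.one_le_lam; omega
  have h7 : (Fintype.card P : ℤ) ≤ D.k + j := by nlinarith
  refine hg1 (A.faith g (Equiv.ext fun x => ?_))
  have hall : A.Fp g = Finset.univ := by
    refine Finset.eq_univ_of_card _ (le_antisymm (Finset.card_le_univ _) ?_)
    rw [← A.card_Fb, A.card_Fb_axial hg]
    omega
  have : x ∈ A.Fp g := hall ▸ Finset.mem_univ x
  simpa using this

/-- A homology fixes exactly the axis and one point, and one block besides those through it. -/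
theorem homology (hg : g ∈ A.ker C₀) (hg1 : g ≠ 1) {z : P} (hz : ¬ D.I z C₀) (hf : A.p g z = z) :
    (∀ x, A.p g x = x → ¬ D.I x C₀ → x = z) ∧ A.Fb g = insert C₀ (D.blks z) := by
  have hmem : z ∈ A.off C₀ g := by simp [off, hf, hz]
  have h1 := A.off_le_one hg hg1
  refine ⟨fun x hx hx' => Finset.card_le_one.mp h1 x (by simp [off, hx, hx']) z hmem, ?_⟩
  refine (Finset.eq_of_subset_of_card_le (fun E hE => ?_) ?_).symm
  · rcases Finset.mem_insert.mp hE with rfl | h
    · simpa using A.ker_le_stB _ hg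
    · rw [mem_Fb]; exact A.fixed_of_fixed_point hg hz hf (D.mem_blks.mp h)
  · rw [A.card_Fb_axial hg, Finset.card_insert_of_notMem (by simpa using hz), D.blks_card]
    omega

end DAct

end

end CfsgLib.AxD
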