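import Cfsg.Agent.Lib.AxialDesign.Translation

set_option autoImplicit false
set_option linter.unusedSectionVars false

/-!
The translation group of a block as an additive group with its partition into centres, and a basis of centres.
-/

namespace CfsgLib.AxD

universe u v w

open scoped Classical

noncomputable section

variable {P : Type u} {B : Type v} [Fintype P] [Fintype B] {D : Des P B} {G : Type w} [Group G]

/-- A block and a point off it. -/
structure Frame (A : DAct D G) where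
  hA : A.Axial
  C : B
  O : P
  hO : ¬ D.I O C

namespace Frame

variable {A : DAct D G} (R : Frame A)

instance commT : CommGroup ↥(R.hA.transl R.C) where
  mul_comm a b := Subtype.ext (R.hA.transl_comm a.2 b.2)

/-- The translations, written additively. -/
abbrev V : Type w := Additive ↥(R.hA.transl R.C)

/-- The group element of a translation. -/
def el (v : R.V) : G := ((Additive.toMul v : ↥(R.hA.transl R.C)) : G)

theorem el_mem (v : R.V) : R.el v ∈ R.hA.transl R.C := (Additive.toMul v).2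

theorem el_add (v w : R.V) : R.el (v + w) = R.el v * R.el w := rfl

@[simp] theorem el_zero : R.el 0 = 1 := rfl

theorem el_neg (v : R.V) : R.el (-v) = (R.el v)⁻¹ := rfl

theorem el_inj : Function.Injective R.el := fun _ _ h => Additive.toMul.injective (Subtype.ext h)

theorem el_eq_one {v : R.V} : R.el v = 1 ↔ v = 0 := ⟨fun h => R.el_inj (h.trans R.el_zero.symm), fun h => h ▸ rfl⟩

theorem exists_el {g : G} (hg : g ∈ R.hA.transl R.C) : ∃ v, R.el v = g := ⟨Additive.ofMul ⟨g, hg⟩, rfl⟩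

theorem finiteV : Finite R.V := by
  haveI := A.finite
  exact Finite.of_injective R.el R.el_inj

theorem card_V : Nat.card R.V = D.t * D.a :=
  (Nat.card_congr Additive.toMul).trans (R.hA.card_transl R.C)

/-- The translations with a given centre. -/
def K (x : P) : AddSubgroup R.V where
  carrier := {v | R.el v ∈ A.elat x R.C}
  zero_mem' := one_mem (A.elat x R.C)
  add_mem' {v w} hv hw := by
    simp only [Set.mem_ofPred_eq] at hv hw ⊢
    exact mul_mem hv hw
  neg_mem' {v} hv := by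
    simp only [Set.mem_ofPred_eq] at hv ⊢
    exact (A.elat x R.C).inv_mem hv

theorem mem_K {x : P} {v : R.V} : v ∈ R.K x ↔ R.el v ∈ A.elat x R.C := Iff.rfl

theorem exists_K (v : R.V) : ∃ x, D.I x R.C ∧ v ∈ R.K x := R.el_mem v

theorem K_disj {x y : P} (hne : x ≠ y) {v : R.V} (h1 : v ∈ R.K x) (h2 : v ∈ R.K y) : v = 0 :=
  R.el_eq_one.mp (A.two_central h1.1 h1.2 h2.2 hne)

theorem card_K {x : P} (hx : D.I x R.C) : Nat.card (R.K x) = D.t := by
  rw [← R.hA.card_elat hx]
  refine Nat.card_eq_of_bijective (fun v : R.K x => (⟨R.el v.1, v.2⟩ : A.elat x R.C)) ⟨fun v w e => ?_, ?_⟩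
  · exact Subtype.ext (R.el_inj (Subtype.mk.inj e))
  · rintro ⟨g, hg⟩
    obtain ⟨v, rfl⟩ := R.exists_el (R.hA.elat_le_transl hx hg)
    exact ⟨⟨v, hg⟩, rfl⟩

theorem exists_ne_zero_K {x : P} (hx : D.I x R.C) : ∃ v ∈ R.K x, v ≠ 0 := by
  obtain ⟨g, hg, hg1⟩ := R.hA.elat_nontriv hx
  obtain ⟨v, rfl⟩ := R.exists_el (R.hA.elat_le_transl hx hg)
  exact ⟨v, hg, fun e => hg1 (R.el_eq_one.mpr e)⟩

/-- The translations fixing a block. -/
def stab (E : B) : AddSubgroup R.V where
  carrier := {v | R.el v ∈ A.stB E}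
  zero_mem' := one_mem (A.stB E)
  add_mem' {v w} hv hw := by
    simp only [Set.mem_ofPred_eq] at hv hw ⊢
    exact mul_mem hv hw
  neg_mem' {v} hv := by
    simp only [Set.mem_ofPred_eq] at hv ⊢
    exact (A.stB E).inv_mem hv

theorem mem_stab {E : B} {v : R.V} : v ∈ R.stab E ↔ A.b (R.el v) E = E := Iff.rfl

theorem K_le_stab {x : P} {E : B} (hE : D.I x E) : R.K x ≤ R.stab E := fun _ hv => hv.2 E hE

theorem meet_of_stab {x : P} (hx : D.I x R.C) {E : B} {v : R.V} (hv : v ∈ R.K x) (h0 : v ≠ 0)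
    (hE : v ∈ R.stab E) : D.I x E :=
  (DAct.elat_fix_iff hx hv fun e => h0 (R.el_eq_one.mp e)).mp hE

theorem a_eq (R : Frame A) : D.a = 1 + D.lam * (D.t - 1) := by
  have h1 := R.hA.k_eq_t
  have h2 := D.k_eq
  obtain ⟨s, hs⟩ : ∃ s, D.t = s + 1 := ⟨D.t - 1, by have := R.hA.two_le_t; omega⟩
  rw [hs] at h1 ⊢
  simp only [Nat.add_sub_cancel]
  nlinarith

theorem card_stab {E : B} (hE : E ≠ R.C) : Nat.card (R.stab E) = D.a := by
  haveI := A.finite
  haveI := Fintype.ofFinite G
  obtain ⟨x, hx⟩ : (D.pts R.C).Nonempty := Finset.card_pos.mp (by rw [D.pts_card]; have := D.two_lt_k; omega)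
  rw [R.a_eq, ← R.hA.card_elat (D.mem_pts.mp hx), ← R.hA.card_transl_stab hE (D.mem_pts.mp hx),
    ← Fintype.card_subtype, ← Nat.card_eq_fintype_card]
  refine Nat.card_eq_of_bijective
    (fun v : R.stab E => (⟨R.el v.1, R.el_mem _, v.2⟩ : {g // g ∈ R.hA.transl R.C ∧ A.b g E = E}))
    ⟨fun v w e => ?_, ?_⟩
  · exact Subtype.ext (R.el_inj (Subtype.mk.inj e))
  · rintro ⟨g, hg, hgE⟩
    obtain ⟨v, rfl⟩ := R.exists_el hg
    exact ⟨⟨v, hgE⟩, rfl⟩

theorem stab_ne_top {E : B} (hE : E ≠ R.C) : R.stab E ≠ ⊤ := fun h => by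
  have h1 := R.card_stab hE
  rw [h, Nat.card_congr AddSubgroup.topEquiv.toEquiv, R.card_V] at h1
  have := R.hA.two_le_t
  have := D.two_le_a
  nlinarith

/-- The point reached from the origin. -/
def pt (v : R.V) : P := A.p (R.el v) R.O

theorem pt_zero : R.pt 0 = R.O := by simp [pt]

theorem pt_off (v : R.V) : ¬ D.I (R.pt v) R.C := fun e => R.hO <| by
  have h1 := R.hA.transl_le_ker R.C (R.el_mem v)
  exact (A.p (R.el v)).injective (h1 _ e) ▸ e

theorem pt_add (v w : R.V) : R.pt (v + w) = A.p (R.el v) (R.pt w) := by rw [pt, R.el_add, A.p_mul]; rfl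

theorem pt_inj : Function.Injective R.pt := fun v w h => by
  refine sub_eq_zero.mp (R.el_eq_one.mp (R.hA.transl_free (R.el_mem _) R.hO ?_))
  change R.pt (v - w) = R.O
  rw [sub_eq_neg_add, R.pt_add, h, ← R.pt_add, neg_add_cancel, R.pt_zero]

theorem exists_pt {z : P} (hz : ¬ D.I z R.C) : ∃ v, R.pt v = z := by
  obtain ⟨g, hg, rfl⟩ := R.hA.transl_trans R.hO hz
  obtain ⟨v, rfl⟩ := R.exists_el hg
  exact ⟨v, rfl⟩

theorem pt_mem_iff {E : B} {v w : R.V} (hv : D.I (R.pt v) E) : D.I (R.pt w) E ↔ w - v ∈ R.stab E := by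
  conv_lhs => rw [← sub_add_cancel w v, R.pt_add]
  rw [mem_stab]
  exact (A.fixed_iff_image (R.hA.transl_le_ker R.C (R.el_mem _)) (R.pt_off v) hv).symm

theorem ne_C_of_O {E : B} (h : D.I R.O E) : E ≠ R.C := fun e => R.hO (e ▸ h)

/-- Conjugation by an automorphism fixing the block. -/
def conj (g : A.stB R.C) : R.V →+ R.V :=
  AddMonoidHom.mk' (fun v => Additive.ofMul (⟨g * R.el v * (g : G)⁻¹, by
    have := R.hA.transl_conj (g := (g : G)) (R.el_mem v)
    rwa [show A.b (g : G) R.C = R.C from g.2] at this⟩ : R.hA.transl R.C))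
    fun v w => R.el_inj (by
      change (g : G) * R.el (v + w) * (g : G)⁻¹ = ((g : G) * R.el v * (g : G)⁻¹) * ((g : G) * R.el w * (g : G)⁻¹)
      rw [R.el_add]; group)

theorem el_conj (g : A.stB R.C) (v : R.V) : R.el (R.conj g v) = g * R.el v * (g : G)⁻¹ := rfl

theorem conj_mul (g h : A.stB R.C) (v : R.V) : R.conj (g * h) v = R.conj g (R.conj h v) := R.el_inj (by
  rw [R.el_conj, R.el_conj, R.el_conj, Subgroup.coe_mul]; group)

@[simp] theorem conj_one (v : R.V) : R.conj 1 v = v := R.el_inj (by rw [R.el_conj]; simp)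

theorem conj_inv_apply (g : A.stB R.C) (v : R.V) : R.conj g⁻¹ (R.conj g v) = v := by
  rw [← R.conj_mul, inv_mul_cancel, R.conj_one]

theorem conj_K {x : P} {v : R.V} (g : A.stB R.C) (hv : v ∈ R.K x) : R.conj g v ∈ R.K (A.p (g : G) x) := by
  rw [mem_K, R.el_conj]
  have := A.elat_conj (g := (g : G)) hv
  rwa [show A.b (g : G) R.C = R.C from g.2] at this

/-- A central automorphism moves translations along its centre. -/
theorem conj_sub_mem {x : P} (hx : D.I x R.C) (g : A.stB R.C) (hg : (g : G) ∈ A.central x) (v : R.V) :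
    R.conj g v - v ∈ R.K x := by
  refine ⟨R.hA.transl_le_ker R.C (R.el_mem _), ?_⟩
  rw [sub_eq_add_neg, R.el_add, R.el_conj, R.el_neg,
    show (g : G) * R.el v * (g : G)⁻¹ * (R.el v)⁻¹ = g * (R.el v * (g : G)⁻¹ * (R.el v)⁻¹) by group]
  refine mul_mem hg ?_
  have := A.central_conj (g := R.el v) (inv_mem hg)
  rwa [R.hA.transl_le_ker R.C (R.el_mem v) x hx] at this

/-- An automorphism fixing a block through the origin pointwise commutes with the translations fixing it. -/
theorem conj_fix {E : B} (hOE : D.I R.O E) (g : A.stB R.C) (hg : (g : G) ∈ A.ker E) {v : R.V}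
    (hv : v ∈ R.stab E) : R.conj g v = v := by
  refine sub_eq_zero.mp (R.el_eq_one.mp (R.hA.transl_free (R.el_mem _) R.hO ?_))
  rw [sub_eq_add_neg, R.el_add, R.el_conj, R.el_neg, A.p_mul, A.p_mul, A.p_mul]
  have h1 : D.I (A.p (R.el v)⁻¹ R.O) E := by
    have h2 : A.b (R.el v)⁻¹ E = E := (inv_mem (show R.el v ∈ A.stB E from hv) : _)
    have := (A.inc (R.el v)⁻¹ R.O E).mpr hOE
    rwa [h2] at this
  rw [inv_mem hg _ h1, A.p_apply_inv, hg _ hOE]

/-- An elation commuting with a translation that moves its axis is trivial. -/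
theorem eq_one_of_conj_fix {x : P} {E : B} (hxE : D.I x E) (hOE : D.I R.O E) (g : A.stB R.C)
    (hg : (g : G) ∈ A.elat x E) {v : R.V} (hv : v ∉ R.stab E) (h : R.conj g v = v) : (g : G) = 1 := by
  refine A.elat_free hxE hg (z := R.pt v) (fun hi => hv ?_) ?_
  · have := (R.pt_mem_iff (v := 0) (E := E) (w := v) (by rw [R.pt_zero]; exact hOE)).mp hi
    rwa [sub_zero] at this
  · have e : (g : G) * R.el v = R.el v * g := by
      have := congrArg R.el h
      rw [R.el_conj, mul_inv_eq_iff_eq_mul] at this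
      exact this
    rw [pt, ← A.p_mul, e, A.p_mul, hg.1 _ hOE]

/-- Sums of two centres are unions of centres. -/
theorem K_line {x y z : P} (hx : D.I x R.C) (hy : D.I y R.C) (hz : D.I z R.C) {v v' : R.V} (hv : v ∈ R.K x)
    (hv' : v' ∈ R.K y) (h0 : v + v' ≠ 0) (hzm : v + v' ∈ R.K z) : R.K z ≤ R.K x ⊔ R.K y := by
  rcases eq_or_ne x y with rfl | hxy
  · obtain rfl : z = x := by_contra fun hne => h0 (R.K_disj hne hzm (add_mem hv hv'))
    exact le_sup_left
  intro u hu
  have hzl : z ∈ DAct.line x y D := DAct.mem_line.mpr fun E h1 h2 =>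
    R.meet_of_stab hz hzm h0 (add_mem (R.K_le_stab h1 hv) (R.K_le_stab h2 hv'))
  obtain ⟨g, hg, h, hh, e⟩ := R.hA.sum_line hx hy hxy hzl hu
  obtain ⟨a, rfl⟩ := R.exists_el (R.hA.elat_le_transl hx hg)
  obtain ⟨b, rfl⟩ := R.exists_el (R.hA.elat_le_transl hy hh)
  obtain rfl : u = a + b := R.el_inj e
  exact AddSubgroup.add_mem_sup hg hh

/-- A sum of centres. -/
def Closed (W : AddSubgroup R.V) : Prop :=
  ∀ x, D.I x R.C → ∀ v ∈ R.K x, v ≠ 0 → v ∈ W → R.K x ≤ W

theorem closed_bot : R.Closed ⊥ := fun _ _ _ _ h0 hb => absurd (AddSubgroup.mem_bot.mp hb) h0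

theorem closed_sup {W : AddSubgroup R.V} (hW : R.Closed W) {y : P} (hy : D.I y R.C) : R.Closed (W ⊔ R.K y) := by
  intro x hx v hv h0 hmem
  obtain ⟨w, hw, k, hk, rfl⟩ := AddSubgroup.mem_sup.mp hmem
  by_cases hw0 : w = 0
  · subst hw0
    rw [zero_add] at hv h0
    obtain rfl : x = y := by_contra fun hne => h0 (R.K_disj hne hv hk)
    exact le_sup_right
  obtain ⟨z, hz, hwz⟩ := R.exists_K w
  exact (R.K_line hz hy hx hwz hk h0 hv).trans (sup_le_sup_right (hW z hz w hwz hw0 hw) _)

/-- The sum map of a family of centres. -/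
def sumHom {s : ℕ} (x : Fin s → P) : ((i : Fin s) → R.K (x i)) →+ R.V :=
  AddMonoidHom.mk' (fun v => ∑ i, (v i : R.V)) fun v w => by simp [Finset.sum_add_distrib]

theorem sumHom_apply {s : ℕ} (x : Fin s → P) (v : (i : Fin s) → R.K (x i)) :
    R.sumHom x v = ∑ i, (v i : R.V) := rfl

theorem range_sumHom {s : ℕ} (x : Fin s → P) :
    (R.sumHom x).range = Finset.univ.sup fun i => R.K (x i) := by
  refine le_antisymm ?_ (Finset.sup_le fun i _ k hk => ?_)
  · rintro _ ⟨v, rfl⟩
    exact sum_mem fun i hi => Finset.le_sup (f := fun i => R.K (x i)) hi (v i).2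
  · refine ⟨Pi.single i ⟨k, hk⟩, ?_⟩
    rw [sumHom_apply, Finset.sum_eq_single i]
    · simp
    · intro j _ hj; simp [hj]
    · simp

theorem closed_range {s : ℕ} (x : Fin s → P) (hx : ∀ i, D.I (x i) R.C) : R.Closed (R.sumHom x).range := by
  rw [R.range_sumHom]
  induction (Finset.univ : Finset (Fin s)) using Finset.induction_on with
  | empty => simpa using R.closed_bot
  | insert i J _ ih => rw [Finset.sup_insert, sup_comm]; exact R.closed_sup ih (hx i)

theorem card_prod {s : ℕ} (x : Fin s → P) (hx : ∀ i, D.I (x i) R.C) :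
    Nat.card ((i : Fin s) → R.K (x i)) = D.t ^ s := by
  rw [Nat.card_pi, Finset.prod_congr rfl fun i _ => R.card_K (hx i), Finset.prod_const, Finset.card_univ,
    Fintype.card_fin]

/-- Some centres form a basis. -/
theorem exists_basis : ∃ (m : ℕ) (x : Fin m → P), (∀ i, D.I (x i) R.C) ∧ Function.Bijective (R.sumHom x) ∧
    D.t ^ m = D.t * D.a := by
  haveI := R.finiteV
  let Q : ℕ → Prop := fun s => ∃ x : Fin s → P, (∀ i, D.I (x i) R.C) ∧ Function.Injective (R.sumHom x)
  have hQle : ∀ s, Q s → s ≤ Nat.card R.V := by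
    rintro s ⟨x, hx, hinj⟩
    have h1 := Nat.card_le_card_of_injective _ hinj
    rw [R.card_prod x hx] at h1
    exact (Nat.lt_pow_self R.hA.two_le_t).le.trans h1
  have hQ0 : Q 0 := ⟨Fin.elim0, fun i => i.elim0, fun v w _ => funext fun i => i.elim0⟩
  set s := Nat.findGreatest Q (Nat.card R.V)
  obtain ⟨x, hx, hinj⟩ : Q s := Nat.findGreatest_spec (Nat.zero_le _) hQ0
  have hsurj : Function.Surjective (R.sumHom x) := by
    intro u
    by_contra hu
    have hu' : u ∉ (R.sumHom x).range := hu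
    obtain ⟨y, hy, huy⟩ := R.exists_K u
    have hy0 : ∀ k ∈ R.K y, k ∈ (R.sumHom x).range → k = 0 := fun k hk hk' =>
      by_contra fun h0 => hu' (R.closed_range x hx y hy k hk h0 hk' huy)
    have hQ : Q (s + 1) := by
      refine ⟨Fin.cons y x, Fin.cases (by simpa using hy) (fun i => by simpa using hx i), ?_⟩
      refine (injective_iff_map_eq_zero _).mpr fun v hv => ?_
      rw [sumHom_apply, Fin.sum_univ_succ] at hv
      let w : (i : Fin s) → R.K (x i) := fun i => ⟨(v i.succ : R.V), by simpa using (v i.succ).2⟩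
      have hw : R.sumHom x w = ∑ i : Fin s, (v i.succ : R.V) := rfl
      rw [← hw] at hv
      have h0 : (v 0 : R.V) = 0 := hy0 _ (by simpa using (v 0).2)
        ⟨-w, by rw [map_neg]; exact (eq_neg_of_add_eq_zero_left hv).symm⟩
      rw [h0, zero_add] at hv
      have hw0 := (injective_iff_map_eq_zero _).mp hinj w hv
      funext i
      refine Subtype.ext ?_
      refine Fin.cases h0 (fun j => ?_) i
      exact congrArg Subtype.val (congrFun hw0 j)
    have := Nat.le_findGreatest (hQle _ hQ) hQ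
    omega
  refine ⟨s, x, hx, ⟨hinj, hsurj⟩, ?_⟩
  rw [← R.card_V, ← R.card_prod x hx]
  exact Nat.card_eq_of_bijective _ ⟨hinj, hsurj⟩

/-- Many blocks pass through the origin and given centres. -/
theorem blocks_through {m : ℕ} (x : Fin m → P) (hx : ∀ i, D.I (x i) R.C) (hm : D.t ^ m = D.t * D.a)
    (J : Finset (Fin m)) :
    D.t ^ m ≤ D.t ^ J.card *
      ((Finset.univ.filter fun E => D.I R.O E ∧ ∀ j ∈ J, D.I (x j) E).card * (D.t - 1) + 1) := by
  induction J using Finset.induction_on with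
  | empty =>
    simp only [Finset.card_empty, pow_zero, one_mul, Finset.notMem_empty, false_imp_iff, implies_true, and_true]
    rw [D.card_blks, hm]
    obtain ⟨s, hs⟩ : ∃ s, D.t = s + 1 := ⟨D.t - 1, by have := R.hA.two_le_t; omega⟩
    have h1 := R.a_eq
    have h2 := R.hA.k_eq_t
    rw [hs] at h1 h2 ⊢
    simp only [Nat.add_sub_cancel] at h1 ⊢
    rw [h1, h2]
    exact le_of_eq (by ring)
  | insert i J hi ih =>
    set Z := Finset.univ.filter fun E => D.I R.O E ∧ ∀ j ∈ J, D.I (x j) E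
    set Z' := Finset.univ.filter fun E => D.I R.O E ∧ ∀ j ∈ insert i J, D.I (x j) E
    have hstep : Z.card ≤ D.t * Z'.card + 1 := by
      by_cases hall : Z ⊆ Z'
      · have := Finset.card_le_card hall
        have := Nat.mul_le_mul_right Z'.card (R.hA.two_le_t)
        omega
      obtain ⟨E₀, hE₀, hE₀'⟩ := Finset.not_subset.mp hall
      have hE₀'' := Finset.mem_filter.mp hE₀
      have hiE₀ : ¬ D.I (x i) E₀ := fun h => hE₀' (Finset.mem_filter.mpr ⟨Finset.mem_univ _, hE₀''.2.1,
        fun j hj => (Finset.mem_insert.mp hj).elim (fun e => e ▸ h) (hE₀''.2.2 j)⟩)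
      have hsub : Z.erase E₀ ⊆ Z'.biUnion fun F => DAct.above E₀ F D := by
        intro E hE
        obtain ⟨hne, hE⟩ := Finset.mem_erase.mp hE
        have hE' := Finset.mem_filter.mp hE
        obtain ⟨F, hF, hxF⟩ := R.hA.cover hne hiE₀
        have hsub := (DAct.mem_above.mp hF).2
        have key : ∀ z, D.I z E₀ → D.I z E → D.I z F := fun z h1 h2 =>
          D.mem_pts.mp (hsub (Finset.mem_inter.mpr ⟨D.mem_pts.mpr h1, D.mem_pts.mpr h2⟩))
        refine Finset.mem_biUnion.mpr ⟨F, Finset.mem_filter.mpr ⟨Finset.mem_univ _, key _ hE₀''.2.1 hE'.2.1,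
          fun j hj => (Finset.mem_insert.mp hj).elim (fun e => e ▸ hxF)
            (fun hj => key _ (hE₀''.2.2 j hj) (hE'.2.2 j hj))⟩, ?_⟩
        rw [DAct.above_eq_of_mem hne hF]
        exact DAct.self_mem_above hne
      have h1 := Finset.card_le_card hsub
      rw [Finset.card_erase_of_mem hE₀] at h1
      have h2 : (Z'.biUnion fun F => DAct.above E₀ F D).card ≤ Z'.card * D.t :=
        Finset.card_biUnion_le_card_mul _ _ _ fun F hF => le_of_eq (R.hA.card_above (by
          rintro rfl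
          exact hiE₀ ((Finset.mem_filter.mp hF).2.2 i (Finset.mem_insert_self _ _))))
      rw [mul_comm Z'.card] at h2
      omega
    rw [Finset.card_insert_of_notMem hi, pow_succ, mul_assoc]
    refine ih.trans (Nat.mul_le_mul_left _ ?_)
    refine (Nat.add_le_add_right (Nat.mul_le_mul_right _ hstep) 1).trans (le_of_eq ?_)
    obtain ⟨s, hs⟩ : ∃ s, D.t = s + 1 := ⟨D.t - 1, by have := R.hA.two_le_t; omega⟩
    rw [hs]
    simp only [Nat.add_sub_cancel]
    ring

end Frame

/-- A basis of centres with the opposite blocks. -/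
structure Basis (A : DAct D G) extends Frame A where
  m : ℕ
  hm : 3 ≤ m
  x : Fin m → P
  hx : ∀ i, D.I (x i) C
  bij : Function.Bijective (toFrame.sumHom x)
  card_eq : D.t ^ m = D.t * D.a
  blk : Fin m → B
  hblkO : ∀ j, D.I O (blk j)
  hblk : ∀ j l, l ≠ j → D.I (x l) (blk j)
  hblk' : ∀ j, ¬ D.I (x j) (blk j)

theorem Frame.exists_Basis {A : DAct D G} (R : Frame A) (hlam : 2 ≤ D.lam) : Nonempty (Basis A) := by
  obtain ⟨m, x, hx, hbij, hcard⟩ := R.exists_basis
  have ht := R.hA.two_le_t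
  have ha := D.two_le_a
  have hm : 3 ≤ m := by
    by_contra hc
    interval_cases m
    · rw [pow_zero] at hcard; nlinarith
    · rw [pow_one] at hcard; nlinarith
    · rw [pow_two] at hcard
      have e := Nat.eq_of_mul_eq_mul_left (by omega) hcard
      have h1 := R.a_eq
      obtain ⟨s, hs⟩ : ∃ s, D.t = s + 1 := ⟨D.t - 1, by omega⟩
      rw [← e, hs, Nat.add_sub_cancel] at h1
      have := Nat.mul_le_mul_right s hlam
      omega
  have hex : ∀ j : Fin m, ∃ E, D.I R.O E ∧ (∀ l, l ≠ j → D.I (x l) E) ∧ ¬ D.I (x j) E := fun j => by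
    have h1 := R.blocks_through x hx hcard (Finset.univ.erase j)
    rw [Finset.card_erase_of_mem (Finset.mem_univ j), Finset.card_univ, Fintype.card_fin] at h1
    obtain ⟨E, hE⟩ : (Finset.univ.filter fun E => D.I R.O E ∧ ∀ l ∈ Finset.univ.erase j, D.I (x l) E).Nonempty := by
      rw [Finset.nonempty_iff_ne_empty]
      intro he
      rw [he, Finset.card_empty, zero_mul, zero_add, mul_one] at h1
      have := (Nat.pow_lt_pow_iff_right ht).mpr (show m - 1 < m by omega)
      omega
    simp only [Finset.mem_filter, Finset.mem_univ, true_and, Finset.mem_erase, and_true] at hE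
    refine ⟨E, hE.1, hE.2, fun hj => R.stab_ne_top (R.ne_C_of_O hE.1) (eq_top_iff.mpr ?_)⟩
    rintro u -
    obtain ⟨v, rfl⟩ := hbij.2 u
    rw [Frame.sumHom_apply]
    refine sum_mem fun l _ => R.K_le_stab ?_ (v l).2
    by_cases h : l = j
    exacts [h ▸ hj, hE.2 l h]
  choose blk h1 h2 h3 using hex
  exact ⟨{ toFrame := R, m := m, hm := hm, x := x, hx := hx, bij := hbij, card_eq := hcard, blk := blk,
           hblkO := h1, hblk := h2, hblk' := h3 }⟩

end

end CfsgLib.AxD
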