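import Cfsg.Agent.Lib.AxialDesign.Main

set_option autoImplicit false
set_option linter.unusedSectionVars false

/-!
The symmetric design of a doubly transitive group with an intransitive subgroup whose index is the degree.
-/

namespace CfsgLib.AxD

universe u v w

open scoped Classical

noncomputable section

/-- The orbit of a point under a permutation representation. -/
def orb {G α : Type*} [Group G] [Fintype α] (f : G →* Equiv.Perm α) (a : α) : Finset α :=
  Finset.univ.filter fun b => ∃ g ∈ (⊤ : Subgroup G), f g a = b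

theorem mem_orb {G α : Type*} [Group G] [Fintype α] {f : G →* Equiv.Perm α} {a b : α} :
    b ∈ orb f a ↔ ∃ g, f g a = b := by simp [orb]

theorem orb_eq {G α : Type*} [Group G] [Fintype α] {f : G →* Equiv.Perm α} {a b : α} (h : b ∈ orb f a) :
    orb f b = orb f a := by
  obtain ⟨g, rfl⟩ := mem_orb.mp h
  ext c
  simp only [mem_orb]
  constructor
  · rintro ⟨k, rfl⟩; exact ⟨k * g, by simp⟩
  · rintro ⟨k, rfl⟩; exact ⟨k * g⁻¹, by simp⟩

theorem sum_fix {G α : Type*} [Group G] [Fintype G] [Fintype α] (f : G →* Equiv.Perm α) :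
    ∑ g, (Finset.univ.filter fun a => f g a = a).card = Fintype.card G * (Finset.univ.image (orb f)).card := by
  have h1 : ∑ g, (Finset.univ.filter fun a => f g a = a).card =
      ∑ a, (Finset.univ.filter fun g => f g a = a).card := by
    simp only [Finset.card_filter]
    exact Finset.sum_comm
  rw [h1, ← Finset.sum_fiberwise_of_maps_to (g := orb f) (t := Finset.univ.image (orb f))
    (fun a _ => Finset.mem_image_of_mem _ (Finset.mem_univ a)), mul_comm, ← smul_eq_mul, ← Finset.sum_const]
  refine Finset.sum_congr rfl fun O hO => ?_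
  obtain ⟨a, -, rfl⟩ := Finset.mem_image.mp hO
  have hfib : (Finset.univ.filter fun b => orb f b = orb f a) = orb f a := by
    ext b
    simp only [Finset.mem_filter, Finset.mem_univ, true_and]
    exact ⟨fun h => h ▸ mem_orb.mpr ⟨1, by simp⟩, orb_eq⟩
  rw [hfib]
  have h2 : ∀ b ∈ orb f a, (orb f a).card * (Finset.univ.filter fun g => f g b = b).card = Fintype.card G :=
    fun b hb => by
      rw [← orb_eq hb]
      convert orbit_stab f ⊤ b using 2 <;> simp [orb]
  have hpos : 0 < (orb f a).card := Finset.card_pos.mpr ⟨a, mem_orb.mpr ⟨1, by simp⟩⟩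
  refine Nat.eq_of_mul_eq_mul_left hpos ?_
  rw [Finset.mul_sum, Finset.sum_congr rfl h2, Finset.sum_const, smul_eq_mul]

/-- The product of two permutation representations. -/
def pairHom {G α β : Type*} [Group G] (f : G →* Equiv.Perm α) (f' : G →* Equiv.Perm β) :
    G →* Equiv.Perm (α × β) :=
  MonoidHom.mk' (fun g => Equiv.prodCongr (f g) (f' g)) fun g h => by
    ext x <;> simp

theorem card_fix_pair {G α β : Type*} [Group G] [Fintype α] [Fintype β] (f : G →* Equiv.Perm α)
    (f' : G →* Equiv.Perm β) (g : G) : (Finset.univ.filter fun x => pairHom f f' g x = x).card =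
      (Finset.univ.filter fun a => f g a = a).card * (Finset.univ.filter fun b => f' g b = b).card := by
  rw [← Finset.card_product]
  congr 1
  ext ⟨a, b⟩
  simp [pairHom, Prod.ext_iff]

theorem same_orbit {G α : Type*} [Group G] [Fintype α] (f : G →* Equiv.Perm α)
    (h2 : (Finset.univ.image (orb f)).card = 2) (S : α → Prop) (hS : ∀ g a, S (f g a) ↔ S a) {a b c : α}
    (ha : S a) (hb : S b) (hc : ¬ S c) : ∃ g, f g a = b := by
  have hne : ∀ d, S d → orb f d ≠ orb f c := fun d hd e => hc <| by
    obtain ⟨g, hg⟩ := mem_orb.mp (e ▸ mem_orb.mpr ⟨1, by simp⟩ : c ∈ orb f d)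
    rw [← hg, hS]; exact hd
  by_contra hno
  have hab : orb f a ≠ orb f b := fun e => hno (mem_orb.mp (e ▸ mem_orb.mpr ⟨1, by simp⟩ : b ∈ orb f a))
  have h3 : ({orb f a, orb f b, orb f c} : Finset (Finset α)) ⊆ Finset.univ.image (orb f) := by
    intro O hO
    simp only [Finset.mem_insert, Finset.mem_singleton] at hO
    rcases hO with rfl | rfl | rfl <;> exact Finset.mem_image_of_mem _ (Finset.mem_univ _)
  have h4 := Finset.card_le_card h3
  rw [h2, Finset.card_eq_three.mpr ⟨_, _, _, hab, hne a ha, hne b hb, rfl⟩] at h4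
  omega

section group

variable {G : Type u} {Ω : Type v} [Group G] [MulAction G Ω] [Fintype Ω]
variable (H : Subgroup G) (a : Ω)

/-- Incidence of a point with a coset. -/
def Inc (x : Ω) (C : G ⧸ H) : Prop := ∃ g : G, (g : G ⧸ H) = C ∧ g⁻¹ • x ∈ MulAction.orbit H a

theorem inc_mk (x : Ω) (g : G) : Inc H a x (g : G ⧸ H) ↔ g⁻¹ • x ∈ MulAction.orbit H a := by
  refine ⟨fun ⟨g', hg', hx⟩ => ?_, fun h => ⟨g, rfl, h⟩⟩
  have hh : g'⁻¹ * g ∈ H := QuotientGroup.eq.mp hg'
  obtain ⟨k, hk⟩ := hx
  refine ⟨⟨g'⁻¹ * g, hh⟩⁻¹ * k, ?_⟩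
  change ((⟨g'⁻¹ * g, hh⟩⁻¹ * k : H) : G) • a = g⁻¹ • x
  rw [Subgroup.coe_mul, Subgroup.coe_inv, mul_smul, show (k : G) • a = g'⁻¹ • x from hk, ← mul_smul]
  congr 1
  group

theorem inc_smul (g : G) (x : Ω) (C : G ⧸ H) : Inc H a (g • x) (g • C) ↔ Inc H a x C := by
  induction C using QuotientGroup.induction_on with
  | _ g' =>
    rw [MulAction.Quotient.smul_coe, smul_eq_mul, inc_mk, inc_mk, mul_inv_rev, mul_smul, inv_smul_smul]

variable [Finite G] [FaithfulSMul G Ω]

/-- From the group to the design. -/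
theorem recognition (h2 : MulAction.IsMultiplyPretransitive G Ω 2) (hidx : H.index = Nat.card Ω)
    (hnt : ¬ MulAction.IsPretransitive H Ω) (hfix : ∀ b : Ω, ∃ h : H, h • b ≠ b)
    (hunf : ∃ h : H, h ≠ 1 ∧ ∀ b ∈ MulAction.orbit H a, h • b = b) :
    ∃ (m : ℕ) (F : Type) (_ : Field F) (_ : Fintype F), 2 ≤ m ∧
      Nat.card Ω = (Fintype.card F ^ (m + 1) - 1) / (Fintype.card F - 1) ∧
      ∃ N : Subgroup G, N.Normal ∧ Nonempty (N ≃* Matrix.ProjectiveSpecialLinearGroup (Fin (m + 1)) F) ∧
        Subgroup.centralizer (N : Set G) = ⊥ := by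
  haveI := Fintype.ofFinite G
  haveI : Fintype (G ⧸ H) := Fintype.ofFinite _
  have h2' : ∀ {x y x' y' : Ω}, x ≠ y → x' ≠ y' → ∃ g : G, g • x = x' ∧ g • y = y' :=
    fun hne hne' => (MulAction.is_two_pretransitive_iff.mp h2) hne hne'
  haveI htr : MulAction.IsPretransitive G Ω := by
    haveI := h2
    exact MulAction.isPretransitive_of_is_two_pretransitive
  have hB : Fintype.card (G ⧸ H) = Fintype.card Ω := by
    rw [← Nat.card_eq_fintype_card, ← Nat.card_eq_fintype_card, ← hidx]; rfl
  set Δ := Finset.univ.filter fun x : Ω => x ∈ MulAction.orbit H a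
  set k := Δ.card
  have hk2 : 2 ≤ k := by
    obtain ⟨h, hh⟩ := hfix a
    exact Finset.one_lt_card.mpr ⟨h • a, Finset.mem_filter.mpr ⟨Finset.mem_univ _, MulAction.mem_orbit a h⟩, a,
      Finset.mem_filter.mpr ⟨Finset.mem_univ _, MulAction.mem_orbit_self a⟩, hh⟩
  have hkn : k + 2 ≤ Fintype.card Ω := by
    obtain ⟨b, hb⟩ : ∃ b, b ∉ MulAction.orbit H a := by
      by_contra! hall
      refine hnt ⟨fun x y => ?_⟩
      obtain ⟨g, rfl⟩ := hall x
      obtain ⟨g', rfl⟩ := hall y
      exact ⟨g' * g⁻¹, by simp [mul_smul]⟩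
    obtain ⟨h, hh⟩ := hfix b
    have hb' : h • b ∉ MulAction.orbit H a := fun ⟨g, hg⟩ => hb ⟨h⁻¹ * g, by
      change (h⁻¹ * g) • a = b
      rw [mul_smul, show g • a = h • b from hg, inv_smul_smul]⟩
    have h1 : ({b, h • b} : Finset Ω) ⊆ Δᶜ := by
      intro z hz
      simp only [Finset.mem_insert, Finset.mem_singleton] at hz
      rcases hz with rfl | rfl <;> simp [Δ, hb, hb']
    have := Finset.card_le_card h1
    rw [Finset.card_pair hh.symm, Finset.card_compl] at this
    omega
  have hpts : ∀ C : G ⧸ H, (Finset.univ.filter fun x => Inc H a x C).card = k := fun C => by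
    induction C using QuotientGroup.induction_on with
    | _ g =>
      refine (Finset.card_equiv (MulAction.toPerm g) fun x => ?_).symm
      simp [Δ, inc_mk]
  have hblks : ∀ x, (Finset.univ.filter fun C => Inc H a x C).card = k := fun x => by
    have hconst : ∀ y, (Finset.univ.filter fun C => Inc H a y C).card =
        (Finset.univ.filter fun C => Inc H a x C).card := fun y => by
      obtain ⟨g, rfl⟩ := MulAction.exists_smul_eq G y x
      exact Finset.card_equiv (MulAction.toPerm g) fun C => by simp [inc_smul]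
    have h1 : ∑ y, (Finset.univ.filter fun C => Inc H a y C).card =
        ∑ C, (Finset.univ.filter fun y => Inc H a y C).card := by
      simp only [Finset.card_filter]; exact Finset.sum_comm
    rw [Finset.sum_congr rfl fun y _ => hconst y, Finset.sum_congr rfl fun C _ => hpts C, Finset.sum_const,
      Finset.sum_const, Finset.card_univ, Finset.card_univ, hB, smul_eq_mul, smul_eq_mul] at h1
    exact Nat.eq_of_mul_eq_mul_left (by omega) h1
  obtain ⟨x₀, y₀, hxy₀⟩ : ∃ x y : Ω, x ≠ y := by
    obtain ⟨h, hh⟩ := hfix a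
    exact ⟨_, _, hh⟩
  set lam := (Finset.univ.filter fun C => Inc H a x₀ C ∧ Inc H a y₀ C).card
  have hlam : ∀ x y, x ≠ y → (Finset.univ.filter fun C => Inc H a x C ∧ Inc H a y C).card = lam := fun x y hxy => by
    obtain ⟨g, rfl, rfl⟩ := h2' hxy hxy₀
    exact Finset.card_equiv (MulAction.toPerm g) fun C => by simp [inc_smul]
  -- the points on pairs of blocks
  have hsum : ∀ C, ∑ E, (Finset.univ.filter fun x => Inc H a x C ∧ Inc H a x E).card = k * k ∧
      ∑ E, (Finset.univ.filter fun x => Inc H a x C ∧ Inc H a x E).card ^ 2 = k * k + k * (k - 1) * lam := by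
    intro C
    set S := Finset.univ.filter fun x => Inc H a x C
    have hS : S.card = k := hpts C
    have e : ∀ E, (Finset.univ.filter fun x => Inc H a x C ∧ Inc H a x E) = S.filter fun x => Inc H a x E :=
      fun E => by rw [Finset.filter_filter]
    constructor
    · simp only [e, Finset.card_filter]
      rw [Finset.sum_comm]
      simp only [← Finset.card_filter, hblks, Finset.sum_const, hS, smul_eq_mul]
    · have e2 : ∀ E, (Finset.univ.filter fun x => Inc H a x C ∧ Inc H a x E).card ^ 2 =
          ((S ×ˢ S).filter fun q => Inc H a q.1 E ∧ Inc H a q.2 E).card := fun E => by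
        rw [e, pow_two, ← Finset.card_product]
        congr 1
        ext ⟨q, q'⟩
        simp only [Finset.mem_product, Finset.mem_filter]
        tauto
      rw [Finset.sum_congr rfl fun E _ => e2 E]
      simp only [Finset.card_filter]
      rw [Finset.sum_comm]
      simp only [← Finset.card_filter]
      rw [Finset.sum_product, Finset.sum_congr rfl fun x hx => show
          (∑ y ∈ S, (Finset.univ.filter fun E => Inc H a x E ∧ Inc H a y E).card) = k + (k - 1) * lam by
        rw [← Finset.add_sum_erase _ _ hx, Finset.sum_congr rfl fun y hy => hlam x y (Finset.ne_of_mem_erase hy).symm,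
          Finset.sum_const, Finset.card_erase_of_mem hx, hS, smul_eq_mul]
        simp only [and_self_iff, hblks],
        Finset.sum_const, hS, smul_eq_mul]
      ring
  have hklam : k * (k - 1) = (Fintype.card Ω - 1) * lam := by
    obtain ⟨C⟩ : Nonempty (G ⧸ H) := inferInstance
    have h1 : ∑ y, (Finset.univ.filter fun E => Inc H a x₀ E ∧ Inc H a y E).card = k * k := by
      simp only [← Finset.filter_filter, Finset.card_filter (p := fun E => Inc H a _ E)]
      rw [Finset.sum_comm]
      simp only [← Finset.card_filter, hpts, Finset.sum_const, hblks, smul_eq_mul]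
    rw [← Finset.add_sum_erase _ _ (Finset.mem_univ x₀),
      Finset.sum_congr rfl fun y hy => hlam x₀ y (Finset.ne_of_mem_erase hy).symm, Finset.sum_const,
      Finset.card_erase_of_mem (Finset.mem_univ x₀), Finset.card_univ, smul_eq_mul] at h1
    simp only [and_self_iff, hblks] at h1
    obtain ⟨j, hj⟩ : ∃ j, k = j + 1 := ⟨k - 1, by omega⟩
    rw [hj] at h1 ⊢
    simp only [Nat.add_sub_cancel]
    nlinarith
  obtain ⟨n, hn⟩ : ∃ n, Fintype.card Ω = n + 1 := ⟨Fintype.card Ω - 1, by omega⟩
  obtain ⟨j, hj⟩ : ∃ j, k = j + 1 := ⟨k - 1, by omega⟩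
  rw [hn, hj, Nat.add_sub_cancel, Nat.add_sub_cancel] at hklam
  have hlk : lam + 2 ≤ k := by nlinarith
  have hlam1 : 1 ≤ lam := by nlinarith
  have hpts2 : ∀ C E : G ⧸ H, C ≠ E → (Finset.univ.filter fun x => Inc H a x C ∧ Inc H a x E).card = lam := by
    intro C E hCE
    obtain ⟨s1, s2⟩ := hsum C
    rw [← Finset.add_sum_erase _ _ (Finset.mem_univ C)] at s1 s2
    simp only [and_self_iff, hpts] at s1 s2
    set c := fun F => (Finset.univ.filter fun x => Inc H a x C ∧ Inc H a x F).card
    have hq : ∑ F ∈ Finset.univ.erase C, ((c F : ℤ) - lam) ^ 2 = 0 := by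
      have hcard : ((Finset.univ.erase C).card : ℤ) = n := by
        rw [Finset.card_erase_of_mem (Finset.mem_univ C), Finset.card_univ, hB, hn, Nat.add_sub_cancel]
      simp only [sub_sq, Finset.sum_add_distrib, Finset.sum_sub_distrib, Finset.sum_const, nsmul_eq_mul,
        mul_assoc, ← Finset.mul_sum, ← Finset.sum_mul, hcard]
      have e1 : (k : ℤ) + ∑ F ∈ Finset.univ.erase C, (c F : ℤ) = k * k := by exact_mod_cast s1
      have e2 : (k : ℤ) ^ 2 + ∑ F ∈ Finset.univ.erase C, (c F : ℤ) ^ 2 = k * k + k * (k - 1 : ℕ) * lam := by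
        exact_mod_cast s2
      rw [hj, Nat.add_sub_cancel] at e2
      rw [hj] at e1
      have e3 : ((j : ℤ) + 1) * j = n * lam := by exact_mod_cast hklam
      push_cast at e1 e2
      linear_combination e2 - 2 * (lam : ℤ) * e1 - (lam : ℤ) * e3
    have := (Finset.sum_eq_zero_iff_of_nonneg fun F _ => sq_nonneg _).mp hq E
      (Finset.mem_erase.mpr ⟨hCE.symm, Finset.mem_univ E⟩)
    exact_mod_cast sub_eq_zero.mp (pow_eq_zero_iff two_ne_zero |>.mp this)
  let D : Des Ω (G ⧸ H) :=
    { I := Inc H a, k := k, lam := lam, a := k - lam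
      k_eq := by omega
      two_le_a := by omega
      one_le_lam := hlam1
      card_B := hB
      k_lt := hkn
      card_pts := hpts
      card_blks := hblks
      card_pts_two := hpts2
      card_blks_two := hlam }
  let A : DAct D G :=
    { p := MulAction.toPermHom G Ω
      b := MulAction.toPermHom G (G ⧸ H)
      inc := fun g x C => inc_smul H a g x C
      faith := fun g hg => eq_of_smul_eq_smul fun x : Ω => by
        rw [one_smul]; exact Equiv.congr_fun hg x }
  -- every representation on pairs has two orbits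
  have hΩ : (Finset.univ.image (orb (pairHom A.p A.p))).card = 2 := by
    have he : Finset.univ.image (orb (pairHom A.p A.p)) =
        {orb (pairHom A.p A.p) (x₀, x₀), orb (pairHom A.p A.p) (x₀, y₀)} := by
      ext O
      simp only [Finset.mem_image, Finset.mem_univ, true_and, Finset.mem_insert, Finset.mem_singleton]
      constructor
      · rintro ⟨⟨x, y⟩, rfl⟩
        rcases eq_or_ne x y with rfl | hxy
        · left
          obtain ⟨g, rfl⟩ := MulAction.exists_smul_eq G x₀ x
          exact orb_eq (mem_orb.mpr ⟨g, rfl⟩)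
        · right
          obtain ⟨g, e1, e2⟩ := h2' hxy₀ hxy
          exact orb_eq (mem_orb.mpr ⟨g, Prod.ext e1 e2⟩)
      · rintro (rfl | rfl) <;> exact ⟨_, rfl⟩
    rw [he, Finset.card_pair]
    intro e
    obtain ⟨g, hg⟩ := mem_orb.mp (e ▸ mem_orb.mpr ⟨1, by simp⟩ :
      (x₀, y₀) ∈ orb (pairHom A.p A.p) (x₀, x₀))
    exact hxy₀ ((congrArg Prod.fst hg).symm.trans (congrArg Prod.snd hg))
  have hfixeq : ∀ g, (Finset.univ.filter fun C => A.b g C = C).card =
      (Finset.univ.filter fun x => A.p g x = x).card := fun g => by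
    have := A.card_Fb g
    unfold DAct.Fb DAct.Fp at this
    convert this
  have htwo : ∀ {α : Type (max u v)} [Fintype α] (f : G →* Equiv.Perm α),
      (∀ g, (Finset.univ.filter fun x => f g x = x).card =
        (Finset.univ.filter fun x => A.p g x = x).card * (Finset.univ.filter fun x => A.p g x = x).card) →
      (Finset.univ.image (orb f)).card = 2 := by
    intro α _ f hf
    refine Nat.eq_of_mul_eq_mul_left (Fintype.card_pos (α := G)) ?_
    rw [← sum_fix f, ← hΩ]
    convert sum_fix (pairHom A.p A.p) using 1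
    · refine Finset.sum_congr rfl fun g _ => ?_
      rw [hf]
      convert (card_fix_pair A.p A.p g).symm
    · congr!
  have hbb : ∀ C E C' E' : G ⧸ H, C ≠ E → C' ≠ E' → ∃ g, A.b g C = C' ∧ A.b g E = E' := by
    intro C E C' E' hne hne'
    let f : G →* Equiv.Perm (ULift.{v} ((G ⧸ H) × (G ⧸ H))) :=
      (Equiv.ulift.symm.permCongrHom).toMonoidHom.comp (pairHom A.b A.b)
    obtain ⟨g, hg⟩ := same_orbit f (htwo f fun g => by
        rw [← hfixeq]
        convert card_fix_pair A.b A.b g using 1
        · refine Finset.card_equiv Equiv.ulift fun x => ?_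
          simp [f, ULift.ext_iff]
        · congr!)
      (fun x => x.down.1 ≠ x.down.2) (fun g x => by simp [f, pairHom]) (a := ⟨(C, E)⟩) (b := ⟨(C', E')⟩)
      (c := ⟨(C, C)⟩) hne hne' (by simp)
    exact ⟨g, congrArg (fun x => x.down.1) hg, congrArg (fun x => x.down.2) hg⟩
  have hpb : ∀ (S : Prop) (x y : Ω) (C C' : G ⧸ H), (Inc H a x C ↔ S) → (Inc H a y C' ↔ S) →
      ∀ (z : Ω) (E : G ⧸ H), ¬ (Inc H a z E ↔ S) → ∃ g, A.p g x = y ∧ A.b g C = C' := by
    intro S x y C C' hS hS' z E hz
    let f : G →* Equiv.Perm (ULift.{max u v} (Ω × (G ⧸ H))) :=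
      (Equiv.ulift.symm.permCongrHom).toMonoidHom.comp (pairHom A.p A.b)
    obtain ⟨g, hg⟩ := same_orbit f (htwo f fun g => by
        conv_rhs => arg 2; rw [← hfixeq]
        convert card_fix_pair A.p A.b g using 1
        · refine Finset.card_equiv Equiv.ulift fun x => ?_
          simp [f, ULift.ext_iff]
        · congr!)
      (fun x => Inc H a x.down.1 x.down.2 ↔ S) (fun g x => by simp [f, pairHom, A, inc_smul])
      (a := ⟨(x, C)⟩) (b := ⟨(y, C')⟩) (c := ⟨(z, E)⟩) hS hS' hz
    exact ⟨g, congrArg (fun x => x.down.1) hg, congrArg (fun x => x.down.2) hg⟩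
  obtain ⟨h, hh1, hh⟩ := hunf
  have hA : A.Axial :=
    { two_b := hbb
      on_block := fun C x y hx hy => by
        obtain ⟨z, hz⟩ : ((D.pts C)ᶜ).Nonempty :=
          Finset.card_pos.mp (by rw [Finset.card_compl, D.pts_card]; have := D.k_lt; omega)
        rw [Finset.mem_compl, D.mem_pts] at hz
        obtain ⟨g, e1, e2⟩ := hpb True x y C C (iff_true_intro hx) (iff_true_intro hy) z C (by simpa using hz)
        exact ⟨g, e2, e1⟩
      off_block := fun C x y hx hy => by
        obtain ⟨z, hz⟩ : (D.pts C).Nonempty :=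
          Finset.card_pos.mp (by rw [D.pts_card]; have := D.two_lt_k; omega)
        rw [D.mem_pts] at hz
        obtain ⟨g, e1, e2⟩ := hpb False x y C C (iff_false_intro hx) (iff_false_intro hy) z C (by simpa using hz)
        exact ⟨g, e2, e1⟩
      nontriv := fun C => by
        induction C using QuotientGroup.induction_on with
        | _ g =>
          refine ⟨g * h * g⁻¹, fun x hx => ?_, fun e => hh1 (Subtype.ext (by simpa using e))⟩
          have h1 := hh _ ((inc_mk H a x g).mp hx)
          change (g * (h : G) * g⁻¹) • x = x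
          rw [mul_smul, mul_smul, show (h : G) • g⁻¹ • x = g⁻¹ • x from h1, smul_inv_smul] }
  exact Axial.recognition hA fun x y x' y' hne hne' => h2' hne hne'

end group

end

end CfsgLib.AxD
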