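import Cfsg.Agent.Lib.AxialDesign.Fixed

set_option autoImplicit false
set_option linter.unusedSectionVars false

/-!
The pointwise stabiliser of a block is transitive off the block.
-/

namespace CfsgLib.AxD

universe u v w

open scoped Classical

noncomputable section

namespace DAct

variable {P : Type u} {B : Type v} [Fintype P] [Fintype B] {D : Des P B} {G : Type w} [Group G] (A : DAct D G)

/-- Doubly transitive on blocks, with transitive block stabilisers and nontrivial pointwise stabilisers. -/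
structure Axial : Prop where
  two_b : ∀ C E C' E', C ≠ E → C' ≠ E' → ∃ g, A.b g C = C' ∧ A.b g E = E'
  on_block : ∀ C x y, D.I x C → D.I y C → ∃ g, A.b g C = C ∧ A.p g x = y
  off_block : ∀ C x y, ¬ D.I x C → ¬ D.I y C → ∃ g, A.b g C = C ∧ A.p g x = y
  nontriv : ∀ C, ∃ g ∈ A.ker C, g ≠ 1

/-- The orbit of a point under the kernel of a block. -/
def korb (C : B) (x : P) : Finset P := Finset.univ.filter fun y => ∃ g ∈ A.ker C, A.p g x = y

/-- The orbit of a block under the kernel of a block. -/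
def borb (C E : B) : Finset B := Finset.univ.filter fun F => ∃ g ∈ A.ker C, A.b g E = F

@[simp] theorem mem_korb {C : B} {x y : P} : y ∈ A.korb C x ↔ ∃ g ∈ A.ker C, A.p g x = y := by simp [korb]

@[simp] theorem mem_borb {C E F : B} : F ∈ A.borb C E ↔ ∃ g ∈ A.ker C, A.b g E = F := by simp [borb]

theorem self_mem_korb (C : B) (x : P) : x ∈ A.korb C x := A.mem_korb.mpr ⟨1, one_mem _, by simp⟩

theorem self_mem_borb (C E : B) : E ∈ A.borb C E := A.mem_borb.mpr ⟨1, one_mem _, by simp⟩

theorem borb_eq {C E F : B} (h : F ∈ A.borb C E) : A.borb C F = A.borb C E := by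
  obtain ⟨g, hg, rfl⟩ := A.mem_borb.mp h
  ext x
  simp only [mem_borb]
  exact ⟨fun ⟨k, hk, e⟩ => ⟨k * g, mul_mem hk hg, by rw [A.b_mul, e]⟩,
    fun ⟨k, hk, e⟩ => ⟨k * g⁻¹, mul_mem hk (inv_mem hg), by rw [A.b_mul, A.b_inv_apply, e]⟩⟩

theorem korb_eq {C : B} {x y : P} (h : y ∈ A.korb C x) : A.korb C y = A.korb C x := by
  obtain ⟨g, hg, rfl⟩ := A.mem_korb.mp h
  ext z
  simp only [mem_korb]
  exact ⟨fun ⟨k, hk, e⟩ => ⟨k * g, mul_mem hk hg, by rw [A.p_mul, e]⟩,
    fun ⟨k, hk, e⟩ => ⟨k * g⁻¹, mul_mem hk (inv_mem hg), by rw [A.p_mul, A.p_inv_apply, e]⟩⟩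

theorem korb_off {C : B} {x y : P} (hx : ¬ D.I x C) (h : y ∈ A.korb C x) : ¬ D.I y C := by
  obtain ⟨g, hg, rfl⟩ := A.mem_korb.mp h
  intro e
  have h1 := hg _ e
  exact hx ((A.p g).injective h1 ▸ e)

theorem borb_off {C E F : B} (hE : E ≠ C) (h : F ∈ A.borb C E) : F ≠ C := by
  obtain ⟨g, hg, rfl⟩ := A.mem_borb.mp h
  exact fun e => hE ((A.b g).injective (e.trans (A.ker_le_stB C hg).symm))

theorem card_borb_conj {C E : B} {g : G} (hg : g ∈ A.stB C) : (A.borb C (A.b g E)).card = (A.borb C E).card := by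
  refine (Finset.card_equiv (A.b g) fun F => ?_).symm
  simp only [mem_borb]
  constructor
  · rintro ⟨k, hk, rfl⟩
    exact ⟨g * k * g⁻¹, A.ker_conj_self hg hk, by rw [A.b_mul, A.b_mul, A.b_inv_apply]⟩
  · rintro ⟨k, hk, e⟩
    refine ⟨g⁻¹ * k * g, by simpa using A.ker_conj_self (inv_mem hg) hk, ?_⟩
    rw [A.b_mul, A.b_mul, e, A.b_inv_apply]

theorem card_korb_conj {C : B} {x : P} {g : G} (hg : g ∈ A.stB C) :
    (A.korb C (A.p g x)).card = (A.korb C x).card := by
  refine (Finset.card_equiv (A.p g) fun F => ?_).symm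
  simp only [mem_korb]
  constructor
  · rintro ⟨k, hk, rfl⟩
    exact ⟨g * k * g⁻¹, A.ker_conj_self hg hk, by rw [A.p_mul, A.p_mul, A.p_inv_apply]⟩
  · rintro ⟨k, hk, e⟩
    refine ⟨g⁻¹ * k * g, by simpa using A.ker_conj_self (inv_mem hg) hk, ?_⟩
    rw [A.p_mul, A.p_mul, e, A.p_inv_apply]

variable {A}

theorem Axial.t_eq (hA : A.Axial) {C E F : B} (hE : E ≠ C) (hF : F ≠ C) :
    (A.borb C F).card = (A.borb C E).card := by
  obtain ⟨g, hgC, hgE⟩ := hA.two_b C E C F hE.symm hF.symm
  rw [← hgE, A.card_borb_conj hgC]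

theorem Axial.sigma_eq (hA : A.Axial) {C : B} {x y : P} (hx : ¬ D.I x C) (hy : ¬ D.I y C) :
    (A.korb C y).card = (A.korb C x).card := by
  obtain ⟨g, hgC, hgx⟩ := hA.off_block C x y hx hy
  rw [← hgx, A.card_korb_conj hgC]

theorem Axial.one_lt_t (hA : A.Axial) {C E : B} (hE : E ≠ C) : 1 < (A.borb C E).card := by
  by_contra hle
  obtain ⟨g, hg, hg1⟩ := hA.nontriv C
  refine hg1 (A.eq_one_of_blocks fun F => ?_)
  rcases eq_or_ne F C with rfl | hF
  · exact A.ker_le_stB _ hg
  have : (A.borb C F).card ≤ 1 := by rw [hA.t_eq hE hF]; omega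
  exact Finset.card_le_one.mp this _ (A.mem_borb.mpr ⟨g, hg, rfl⟩) _ (A.self_mem_borb C F)

/-- An invariant set of blocks off the axis is a union of orbits. -/
theorem Axial.t_dvd (hA : A.Axial) {C E : B} (hE : E ≠ C) (S : Finset B) (hC : C ∉ S)
    (hS : ∀ g ∈ A.ker C, ∀ F ∈ S, A.b g F ∈ S) : (A.borb C E).card ∣ S.card := by
  rw [Finset.card_eq_sum_card_image (fun F => A.borb C F) S]
  refine Finset.dvd_sum fun O hO => ?_
  obtain ⟨F, hF, rfl⟩ := Finset.mem_image.mp hO
  have : (S.filter fun F' => A.borb C F' = A.borb C F) = A.borb C F := by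
    ext F'
    simp only [Finset.mem_filter]
    refine ⟨fun h => h.2 ▸ A.self_mem_borb C F', fun h => ⟨?_, A.borb_eq h⟩⟩
    obtain ⟨g, hg, rfl⟩ := A.mem_borb.mp h
    exact hS g hg F hF
  rw [this, hA.t_eq hE fun e => hC (e ▸ hF)]

variable (A)

theorem sum_fix_p [Fintype G] (K : Subgroup G) [DecidablePred (· ∈ K)] (h : G) :
    ∑ g ∈ Finset.univ.filter (· ∈ K), (A.Fp (h * g)).card =
      ∑ x, ((Finset.univ.filter (· ∈ K)).filter fun g => A.p (h * g) x = x).card := by
  simp only [Fp, Finset.card_filter]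
  exact Finset.sum_comm

theorem sum_fix_b [Fintype G] (K : Subgroup G) [DecidablePred (· ∈ K)] (h : G) :
    ∑ g ∈ Finset.univ.filter (· ∈ K), (A.Fb (h * g)).card =
      ∑ E, ((Finset.univ.filter (· ∈ K)).filter fun g => A.b (h * g) E = E).card := by
  simp only [Fb, Finset.card_filter]
  exact Finset.sum_comm

theorem coset_count_p [Fintype G] {C : B} (h : G) (x : P) :
    ((Finset.univ.filter (· ∈ A.ker C)).filter fun g => A.p (h * g) x = x).card * (A.korb C x).card =
      if A.p h⁻¹ x ∈ A.korb C x then (Finset.univ.filter (· ∈ A.ker C)).card else 0 := by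
  set KF := Finset.univ.filter (· ∈ A.ker C)
  have hiff : ∀ g, A.p (h * g) x = x ↔ A.p g x = A.p h⁻¹ x := fun g => by
    rw [A.p_mul]
    constructor <;> intro e
    · conv_rhs => rw [← e, A.p_inv_apply]
    · rw [e, A.p_apply_inv]
  simp only [hiff]
  split_ifs with hy
  · obtain ⟨g₀, hg₀, hg₀x⟩ := A.mem_korb.mp hy
    rw [← hg₀x, Finset.card_eq_sum_card_fiberwise (f := fun g => A.p g x) (s := KF) (t := A.korb C x)
      (fun g hg => A.mem_korb.mpr ⟨g, by simpa [KF] using hg, rfl⟩)]
    rw [mul_comm, ← smul_eq_mul, ← Finset.sum_const]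
    refine Finset.sum_congr rfl fun z hz => ?_
    obtain ⟨g₁, hg₁, rfl⟩ := A.mem_korb.mp hz
    refine Finset.card_equiv (Equiv.mulLeft (g₁ * g₀⁻¹)) fun g => ?_
    simp only [KF, Finset.mem_filter, Finset.mem_univ, true_and, Equiv.coe_mulLeft]
    constructor
    · rintro ⟨hg, e⟩
      exact ⟨mul_mem (mul_mem hg₁ (inv_mem hg₀)) hg, by rw [A.p_mul, A.p_mul, e, A.p_inv_apply]⟩
    · rintro ⟨hg, e⟩
      refine ⟨by simpa [mul_assoc] using mul_mem (mul_mem hg₀ (inv_mem hg₁)) hg, ?_⟩
      rw [A.p_mul, A.p_mul] at e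
      have := congrArg (A.p g₀) ((A.p g₁).injective e)
      rwa [A.p_apply_inv] at this
  · rw [mul_eq_zero]
    left
    rw [Finset.card_eq_zero, Finset.filter_eq_empty_iff]
    intro g hg e
    exact hy (A.mem_korb.mpr ⟨g, by simpa [KF] using hg, e⟩)

theorem coset_count_b [Fintype G] {C : B} (h : G) (E : B) :
    ((Finset.univ.filter (· ∈ A.ker C)).filter fun g => A.b (h * g) E = E).card * (A.borb C E).card =
      if A.b h⁻¹ E ∈ A.borb C E then (Finset.univ.filter (· ∈ A.ker C)).card else 0 := by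
  set KF := Finset.univ.filter (· ∈ A.ker C)
  have hiff : ∀ g, A.b (h * g) E = E ↔ A.b g E = A.b h⁻¹ E := fun g => by
    rw [A.b_mul]
    constructor <;> intro e
    · conv_rhs => rw [← e, A.b_inv_apply]
    · rw [e, A.b_apply_inv]
  simp only [hiff]
  split_ifs with hy
  · obtain ⟨g₀, hg₀, hg₀x⟩ := A.mem_borb.mp hy
    rw [← hg₀x, Finset.card_eq_sum_card_fiberwise (f := fun g => A.b g E) (s := KF) (t := A.borb C E)
      (fun g hg => A.mem_borb.mpr ⟨g, by simpa [KF] using hg, rfl⟩)]
    rw [mul_comm, ← smul_eq_mul, ← Finset.sum_const]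
    refine Finset.sum_congr rfl fun z hz => ?_
    obtain ⟨g₁, hg₁, rfl⟩ := A.mem_borb.mp hz
    refine Finset.card_equiv (Equiv.mulLeft (g₁ * g₀⁻¹)) fun g => ?_
    simp only [KF, Finset.mem_filter, Finset.mem_univ, true_and, Equiv.coe_mulLeft]
    constructor
    · rintro ⟨hg, e⟩
      exact ⟨mul_mem (mul_mem hg₁ (inv_mem hg₀)) hg, by rw [A.b_mul, A.b_mul, e, A.b_inv_apply]⟩
    · rintro ⟨hg, e⟩
      refine ⟨by simpa [mul_assoc] using mul_mem (mul_mem hg₀ (inv_mem hg₁)) hg, ?_⟩
      rw [A.b_mul, A.b_mul] at e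
      have := congrArg (A.b g₀) ((A.b g₁).injective e)
      rwa [A.b_apply_inv] at this
  · rw [mul_eq_zero]
    left
    rw [Finset.card_eq_zero, Finset.filter_eq_empty_iff]
    intro g hg e
    exact hy (A.mem_borb.mpr ⟨g, by simpa [KF] using hg, e⟩)

variable {A}

/-- The orbit identity in a coset of the kernel. -/
theorem Axial.coset_identity (hA : A.Axial) {C E : B} (hE : E ≠ C) {x : P} (hx : ¬ D.I x C) {h : G}
    (hh : h ∈ A.stB C) :
    (A.korb C x).card * ((A.borb C E).card +
        (Finset.univ.filter fun F => F ≠ C ∧ A.b h⁻¹ F ∈ A.borb C F).card) =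
      (A.borb C E).card * ((A.korb C x).card * ((D.pts C).filter fun y => A.p h y = y).card +
        (Finset.univ.filter fun y => ¬ D.I y C ∧ A.p h⁻¹ y ∈ A.korb C y).card) := by
  haveI := A.finite
  haveI := Fintype.ofFinite G
  set σ := (A.korb C x).card
  set t := (A.borb C E).card
  set κ := (Finset.univ.filter (· ∈ A.ker C)).card
  have hκ : 0 < κ := Finset.card_pos.mpr ⟨1, by simp [one_mem]⟩
  have hb : t * ∑ g ∈ Finset.univ.filter (· ∈ A.ker C), (A.Fb (h * g)).card =
      κ * (t + (Finset.univ.filter fun F => F ≠ C ∧ A.b h⁻¹ F ∈ A.borb C F).card) := by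
    rw [A.sum_fix_b, Finset.mul_sum]
    have : ∀ F, t * ((Finset.univ.filter (· ∈ A.ker C)).filter fun g => A.b (h * g) F = F).card =
        κ * ((if F = C then t else 0) + if F ≠ C ∧ A.b h⁻¹ F ∈ A.borb C F then 1 else 0) := fun F => by
      rcases eq_or_ne F C with rfl | hF
      · have : ((Finset.univ.filter (· ∈ A.ker F)).filter fun g => A.b (h * g) F = F).card = κ := by
          congr 1
          refine Finset.filter_true_of_mem fun g hg => ?_
          exact (mul_mem hh (A.ker_le_stB F (by simpa using hg)) : h * g ∈ A.stB F)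
        rw [this, if_pos rfl, if_neg (fun e => e.1 rfl), add_zero, mul_comm]
      · have hc := A.coset_count_b (C := C) h F
        rw [hA.t_eq hE hF] at hc
        rw [mul_comm, hc]
        by_cases hy : A.b h⁻¹ F ∈ A.borb C F <;> simp [hF, hy, κ]
    rw [Finset.sum_congr rfl fun F _ => this F, ← Finset.mul_sum, Finset.sum_add_distrib, Finset.sum_boole,
      Finset.sum_ite_eq', if_pos (Finset.mem_univ _), Nat.cast_id]
  have hp : σ * ∑ g ∈ Finset.univ.filter (· ∈ A.ker C), (A.Fp (h * g)).card =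
      κ * (σ * ((D.pts C).filter fun y => A.p h y = y).card +
        (Finset.univ.filter fun y => ¬ D.I y C ∧ A.p h⁻¹ y ∈ A.korb C y).card) := by
    rw [A.sum_fix_p, Finset.mul_sum]
    have : ∀ y, σ * ((Finset.univ.filter (· ∈ A.ker C)).filter fun g => A.p (h * g) y = y).card =
        κ * ((if D.I y C ∧ A.p h y = y then σ else 0) + if ¬ D.I y C ∧ A.p h⁻¹ y ∈ A.korb C y then 1 else 0) := fun y => by
      by_cases hy : D.I y C
      · have : ∀ g ∈ Finset.univ.filter (· ∈ A.ker C), A.p (h * g) y = A.p h y := fun g hg => by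
          rw [A.p_mul, (show g ∈ A.ker C by simpa using hg) y hy]
        rw [Finset.filter_congr fun g hg => by rw [this g hg]]
        by_cases hf : A.p h y = y <;> simp [hy, hf, κ, mul_comm]
      · have hc := A.coset_count_p (C := C) h y
        rw [hA.sigma_eq hx hy] at hc
        rw [mul_comm, hc]
        by_cases hy' : A.p h⁻¹ y ∈ A.korb C y <;> simp [hy, hy', κ]
    rw [Finset.sum_congr rfl fun y _ => this y, ← Finset.mul_sum, Finset.sum_add_distrib, Finset.sum_boole,
      ← Finset.sum_filter, Finset.sum_const, Nat.cast_id, smul_eq_mul, mul_comm σ]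
    rw [show (Finset.univ.filter fun y => D.I y C ∧ A.p h y = y) = (D.pts C).filter fun y => A.p h y = y by
      ext y; simp, mul_comm _ σ]
  have heq : ∑ g ∈ Finset.univ.filter (· ∈ A.ker C), (A.Fb (h * g)).card =
      ∑ g ∈ Finset.univ.filter (· ∈ A.ker C), (A.Fp (h * g)).card :=
    Finset.sum_congr rfl fun g _ => A.card_Fb _
  rw [heq] at hb
  refine Nat.eq_of_mul_eq_mul_left hκ ?_
  rw [← mul_assoc, mul_comm κ σ, mul_assoc, ← hb, ← mul_assoc κ, mul_comm κ t, mul_assoc, ← hp]
  ring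

/-- The blocks above an intersection with the axis. -/
def above (C E : B) (D : Des P B) : Finset B :=
  Finset.univ.filter fun F => F ≠ C ∧ D.pts C ∩ D.pts E ⊆ D.pts F

theorem Axial.orbit_meet (hA : A.Axial) {C E : B} (hE : E ≠ C) {x : P} (hx : ¬ D.I x C) (hxE : D.I x E) :
    (A.borb C E).card * ((A.korb C x).filter fun y => D.I y E).card = (A.korb C x).card := by
  set T := A.borb C E
  have hcov : A.korb C x = T.biUnion fun F => (A.korb C x).filter fun y => D.I y F := by
    ext y
    simp only [Finset.mem_biUnion, Finset.mem_filter]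
    refine ⟨fun hy => ?_, fun ⟨F, _, hy, _⟩ => hy⟩
    obtain ⟨g, hg, rfl⟩ := A.mem_korb.mp hy
    exact ⟨A.b g E, A.mem_borb.mpr ⟨g, hg, rfl⟩, hy, (A.inc g x E).mpr hxE⟩
  have hdisj : Set.PairwiseDisjoint (↑T : Set B) fun F => (A.korb C x).filter fun y => D.I y F := by
    intro F hF F' hF' hne
    simp only [Function.onFun, Finset.disjoint_left, Finset.mem_filter]
    rintro y ⟨hy, h1⟩ ⟨-, h2⟩
    obtain ⟨g, hg, rfl⟩ := A.mem_borb.mp (A.borb_eq (Finset.mem_coe.mp hF) ▸ (Finset.mem_coe.mp hF') : F' ∈ A.borb C F)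
    exact A.korb_off hx hy (A.common_on_axis hg (Ne.symm hne) h1 h2)
  conv_rhs => rw [hcov]
  rw [Finset.card_biUnion hdisj]
  refine (Finset.sum_const_nat fun F hF => ?_).symm
  obtain ⟨g, hg, rfl⟩ := A.mem_borb.mp hF
  refine (Finset.card_equiv (A.p g) fun y => ?_).symm
  simp only [Finset.mem_filter, A.inc]
  refine and_congr_left fun _ => ⟨fun hy => ?_, fun hy => ?_⟩
  · obtain ⟨k, hk, rfl⟩ := A.mem_korb.mp hy
    exact A.mem_korb.mpr ⟨g * k, mul_mem hg hk, A.p_mul g k x⟩
  · obtain ⟨k, hk, e⟩ := A.mem_korb.mp hy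
    exact A.mem_korb.mpr ⟨g⁻¹ * k, mul_mem (inv_mem hg) hk, by rw [A.p_mul, e, A.p_inv_apply]⟩

/-- Common blocks along an orbit. -/
theorem Axial.orbit_blocks (hA : A.Axial) {C E : B} (hE : E ≠ C) {x : P} (hx : ¬ D.I x C) (hxE : D.I x E) :
    D.k * ((A.korb C x).filter fun y => D.I y E).card + D.lam = D.k + (A.korb C x).card * D.lam := by
  set O := A.korb C x
  set t := (A.borb C E).card
  have h1 : ∀ F ∈ D.blks x, (O.filter fun y => D.I y F).card = (O.filter fun y => D.I y E).card := by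
    intro F hF
    have hF' := D.mem_blks.mp hF
    have hFC : F ≠ C := fun e => hx (e ▸ hF')
    have e1 := hA.orbit_meet hFC hx hF'
    rw [hA.t_eq hE hFC, ← hA.orbit_meet hE hx hxE] at e1
    exact Nat.eq_of_mul_eq_mul_left (by have := hA.one_lt_t hE; omega) e1
  have h2 : ∑ F ∈ D.blks x, (O.filter fun y => D.I y F).card = ∑ y ∈ O, (D.blks x ∩ D.blks y).card := by
    simp only [Finset.card_filter]
    rw [Finset.sum_comm]
    refine Finset.sum_congr rfl fun y _ => ?_
    rw [Finset.sum_boole, Nat.cast_id]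
    congr 1
    ext F
    simp
  rw [Finset.sum_congr rfl h1, Finset.sum_const, D.blks_card, smul_eq_mul,
    ← Finset.add_sum_erase _ _ (A.self_mem_korb C x), Finset.inter_self, D.blks_card,
    Finset.sum_congr rfl fun y hy => D.inter_blks_card (Finset.ne_of_mem_erase hy).symm, Finset.sum_const,
    Finset.card_erase_of_mem (A.self_mem_korb C x), smul_eq_mul] at h2
  rw [h2]
  have : 0 < O.card := Finset.card_pos.mpr ⟨x, A.self_mem_korb C x⟩
  obtain ⟨s, hs⟩ : ∃ s, O.card = s + 1 := ⟨O.card - 1, by omega⟩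
  rw [hs, Nat.add_sub_cancel]; ring

/-- Blocks through a meet with the axis are pairwise disjoint off it. -/
theorem above_bound {C E : B} (hE : E ≠ C) (S : Finset B) (hS : ∀ F ∈ S, F ≠ C ∧ D.pts C ∩ D.pts E ⊆ D.pts F) :
    S.card * D.a + D.k ≤ Fintype.card P := by
  set L := D.pts C ∩ D.pts E
  have hmeet : ∀ F ∈ S, D.pts C ∩ D.pts F = L := fun F hF =>
    (Finset.eq_of_subset_of_card_le (Finset.subset_inter Finset.inter_subset_left (hS F hF).2)
      (by rw [D.inter_pts_card hE.symm, D.inter_pts_card (hS F hF).1.symm])).symm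
  have hdisj : Set.PairwiseDisjoint (↑S : Set B) fun F => D.pts F \ D.pts C := by
    intro F hF F' hF' hne
    simp only [Function.onFun, Finset.disjoint_left, Finset.mem_sdiff]
    rintro y ⟨h1, h2⟩ ⟨h3, -⟩
    have hsub : L ⊆ D.pts F ∩ D.pts F' := Finset.subset_inter (hS F hF).2 (hS F' hF').2
    have heq := Finset.eq_of_subset_of_card_le hsub (by rw [D.inter_pts_card hne, D.inter_pts_card hE.symm])
    exact h2 (Finset.mem_inter.mp (heq ▸ Finset.mem_inter.mpr ⟨h1, h3⟩ : y ∈ L)).1
  have h := Finset.card_le_card (show (S.biUnion fun F => D.pts F \ D.pts C) ⊆ (D.pts C)ᶜ by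
    intro y hy; simp only [Finset.mem_biUnion, Finset.mem_sdiff] at hy
    obtain ⟨_, _, _, h⟩ := hy; exact Finset.mem_compl.mpr h)
  rw [Finset.card_biUnion hdisj, Finset.card_compl, D.pts_card, Finset.sum_const_nat (m := D.a) fun F hF => by
    rw [← Finset.sdiff_inter_self_left, Finset.card_sdiff_of_subset Finset.inter_subset_left, D.pts_card,
      D.inter_pts_card (hS F hF).1]
    have := D.k_eq; omega] at h
  have := D.k_lt
  omega

/-- The basic facts, before transitivity. -/
theorem Axial.above_eq (hA : A.Axial) {C E : B} (hE : E ≠ C) : above C E D = A.borb C E := by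
  have hsub : A.borb C E ⊆ above C E D := by
    intro F hF
    obtain ⟨g, hg, rfl⟩ := A.mem_borb.mp hF
    simp only [above, Finset.mem_filter, Finset.mem_univ, true_and]
    refine ⟨A.borb_off hE hF, fun y hy => ?_⟩
    simp only [Finset.mem_inter, D.mem_pts] at hy ⊢
    exact (A.meet_axis hg hy.1).mpr hy.2
  refine (Finset.eq_of_subset_of_card_le hsub ?_).symm
  by_contra hlt
  push Not at hlt
  obtain ⟨F, hF, hFn⟩ := Finset.exists_of_ssubset (Finset.ssubset_iff_subset_ne.mpr ⟨hsub, fun e => by rw [e] at hlt; omega⟩)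
  simp only [above, Finset.mem_filter, Finset.mem_univ, true_and] at hF
  -- two orbits above one meet
  have hFsub : A.borb C F ⊆ above C E D := by
    intro F' hF'
    obtain ⟨g, hg, rfl⟩ := A.mem_borb.mp hF'
    simp only [above, Finset.mem_filter, Finset.mem_univ, true_and]
    refine ⟨A.borb_off hF.1 hF', fun y hy => ?_⟩
    have h1 := hF.2 hy
    simp only [Finset.mem_inter, D.mem_pts] at hy h1 ⊢
    exact (A.meet_axis hg hy.1).mpr h1
  have hdisj : Disjoint (A.borb C E) (A.borb C F) := Finset.disjoint_left.mpr fun z h1 h2 => hFn <| by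
    rw [← A.borb_eq h1, A.borb_eq h2]; exact A.self_mem_borb C F
  have hb := above_bound hE (A.borb C E ∪ A.borb C F) fun z hz => by
    have := Finset.union_subset hsub hFsub hz
    simpa [above] using this
  rw [Finset.card_union_of_disjoint hdisj, hA.t_eq hE hF.1] at hb
  obtain ⟨x, hxE, hxC⟩ : ∃ x, D.I x E ∧ ¬ D.I x C := by
    by_contra! h
    exact hE (D.eq_of_pts (Finset.eq_of_subset_of_card_le (fun y hy => D.mem_pts.mpr (h y (D.mem_pts.mp hy)))
      (by rw [D.pts_card, D.pts_card])))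
  have h0 := hA.coset_identity hE hxC (h := 1) (one_mem _)
  have e1 : (Finset.univ.filter fun F => F ≠ C ∧ A.b (1 : G)⁻¹ F ∈ A.borb C F).card = Fintype.card P - 1 := by
    rw [show (Finset.univ.filter fun F => F ≠ C ∧ A.b (1 : G)⁻¹ F ∈ A.borb C F) = Finset.univ.erase C by
      ext z; simp only [Finset.mem_filter, Finset.mem_univ, true_and, Finset.mem_erase, inv_one, map_one,
        Equiv.Perm.coe_one, id_eq, A.self_mem_borb, and_true]]
    rw [Finset.card_erase_of_mem (Finset.mem_univ C), Finset.card_univ, D.card_B]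
  have e2 : (Finset.univ.filter fun y => ¬ D.I y C ∧ A.p (1 : G)⁻¹ y ∈ A.korb C y).card = Fintype.card P - D.k := by
    rw [show (Finset.univ.filter fun y => ¬ D.I y C ∧ A.p (1 : G)⁻¹ y ∈ A.korb C y) = (D.pts C)ᶜ by
      ext z; simp only [Finset.mem_filter, Finset.mem_univ, true_and, Finset.mem_compl, D.mem_pts, inv_one, map_one,
        Equiv.Perm.coe_one, id_eq, A.self_mem_korb, and_true]]
    rw [Finset.card_compl, D.pts_card]
  have e3 : ((D.pts C).filter fun y => A.p (1 : G) y = y).card = D.k := by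
    rw [Finset.filter_true_of_mem fun y _ => by simp, D.pts_card]
  rw [e1, e2, e3] at h0
  have hu2 : 2 ≤ ((A.korb C x).filter fun y => D.I y E).card := by
    by_contra hu
    have hu1 : ((A.korb C x).filter fun y => D.I y E).card = 1 := by
      have : 0 < ((A.korb C x).filter fun y => D.I y E).card := Finset.card_pos.mpr
        ⟨x, Finset.mem_filter.mpr ⟨A.self_mem_korb C x, hxE⟩⟩
      omega
    have := hA.orbit_meet hE hxC hxE
    rw [hu1, mul_one] at this
    rw [← this] at h0
    have h0' := Nat.eq_of_mul_eq_mul_left (by have := hA.one_lt_t hE; omega) h0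
    have := D.k_lt
    have := hA.one_lt_t hE
    have := D.two_lt_k
    obtain ⟨t', ht'⟩ : ∃ t', (A.borb C E).card = t' + 2 := ⟨(A.borb C E).card - 2, by omega⟩
    rw [ht'] at h0'
    obtain ⟨k', hk'⟩ : ∃ k', D.k = k' + 2 := ⟨D.k - 2, by omega⟩
    obtain ⟨r, hr⟩ : ∃ r, Fintype.card P = k' + 2 + r := ⟨Fintype.card P - (k' + 2), by omega⟩
    rw [hr, hk', Nat.add_sub_cancel_left, show k' + 2 + r - 1 = k' + 1 + r by omega] at h0'
    nlinarith
  have hσ := hA.orbit_meet hE hxC hxE
  have hk := D.k_mul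
  have := D.k_eq
  have := hA.one_lt_t hE
  have := D.one_le_lam
  have := D.k_lt
  set t := (A.borb C E).card
  set u := ((A.korb C x).filter fun y => D.I y E).card
  rw [← hσ] at h0
  obtain ⟨w, hw⟩ : ∃ w, Fintype.card P = D.k + w := ⟨Fintype.card P - D.k, by omega⟩
  obtain ⟨k', hk'⟩ : ∃ k', D.k = k' + 1 := ⟨D.k - 1, by omega⟩
  rw [hw, hk'] at h0 hk hb
  rw [show k' + 1 + w - 1 = k' + w by omega, Nat.add_sub_cancel_left] at h0
  have h0' : u * (t + (k' + w)) = t * u * (k' + 1) + w :=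
    Nat.eq_of_mul_eq_mul_left (show 0 < t by omega) (by linarith)
  -- so twice the orbit length exceeds the room above the meet
  obtain ⟨u', rfl'⟩ : ∃ u', u = u' + 2 := ⟨u - 2, by omega⟩
  rw [rfl'] at h0'
  have h1 : k' + w ≤ t * k' + w := by nlinarith
  have h2 : w + 2 * k' ≤ 2 * (t * k') := by
    by_contra hc
    push Not at hc
    nlinarith
  have h3 : 2 * t * D.a ≤ w := by nlinarith
  nlinarith

/-- The number of blocks through a point of the meet. -/
theorem Axial.t_dvd_k (hA : A.Axial) {C E : B} (hE : E ≠ C) : (A.borb C E).card ∣ D.k - 1 := by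
  obtain ⟨x, hx⟩ : ∃ x, x ∈ D.pts C := Finset.card_pos.mp (by rw [D.pts_card]; have := D.two_lt_k; omega)
  rw [D.mem_pts] at hx
  have h := hA.t_dvd hE ((D.blks x).erase C) (Finset.notMem_erase _ _) fun g hg F hF => by
    simp only [Finset.mem_erase, D.mem_blks] at hF ⊢
    refine ⟨A.borb_off hF.1 (A.mem_borb.mpr ⟨g, hg, rfl⟩), ?_⟩
    rw [A.meet_axis hg hx]; exact hF.2
  rwa [Finset.card_erase_of_mem (by simpa using hx), D.blks_card] at h

/-- The orbit of a point off the axis fills every block through it. -/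
theorem Axial.orbit_full (hA : A.Axial) {C E : B} (hE : E ≠ C) {x : P} (hx : ¬ D.I x C) (hxE : D.I x E) :
    D.pts E \ D.pts C ⊆ A.korb C x := by
  haveI := A.finite
  set t := (A.borb C E).card
  set σ := (A.korb C x).card
  set u := ((A.korb C x).filter fun y => D.I y E).card
  have ha : (D.pts E \ D.pts C).card = D.a := by
    rw [← Finset.sdiff_inter_self_left, Finset.card_sdiff_of_subset Finset.inter_subset_left, D.pts_card,
      D.inter_pts_card hE]
    have := D.k_eq; omega
  have hsub : ((A.korb C x).filter fun y => D.I y E) ⊆ D.pts E \ D.pts C := fun y hy => by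
    simp only [Finset.mem_filter, Finset.mem_sdiff, D.mem_pts] at hy ⊢
    exact ⟨hy.2, A.korb_off hx hy.1⟩
  suffices hu : D.a ≤ u by
    intro y hy
    rw [← Finset.eq_of_subset_of_card_le hsub (by rw [ha]; exact hu)] at hy
    exact (Finset.mem_filter.mp hy).1
  -- an axial element of `E` fixing `C`
  obtain ⟨h, hh, hh1, hhC⟩ : ∃ h ∈ A.ker E, h ≠ 1 ∧ A.b h C = C := by
    obtain ⟨g, hg, hg1⟩ := hA.nontriv E
    obtain ⟨F, hF, hFE⟩ : ∃ F ∈ A.Fb g, F ≠ E := by
      by_contra! hc
      have := Finset.card_le_card (show A.Fb g ⊆ {E} from fun z hz => Finset.mem_singleton.mpr (hc z hz))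
      rw [A.card_Fb_axial hg, Finset.card_singleton] at this
      have := D.two_lt_k
      omega
    obtain ⟨k, hkE, hkF⟩ := hA.two_b E F E C hFE.symm hE
    refine ⟨k * g * k⁻¹, by simpa [hkE] using A.ker_conj (g := k) hg, fun e => hg1 (by simpa using e), ?_⟩
    rw [← hkF, A.b_mul, A.b_mul, A.b_inv_apply, show A.b g F = F by simpa using hF]
  set j := (A.off E h).card
  have hj1 := A.off_le_one hh hh1
  -- a fixed point off `E` lies on `C`
  have hoffC : ∀ z ∈ A.off E h, D.I z C := by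
    intro z hz
    simp only [off, Finset.mem_filter, mem_Fp] at hz
    by_contra hzC
    have := (A.homology hh hh1 hz.2 hz.1).2
    have hC : C ∈ A.Fb h := by simpa using hhC
    rw [this, Finset.mem_insert, D.mem_blks] at hC
    exact hC.elim (fun e => hE e.symm) hzC
  have hnew : ∀ F, F ≠ C → F ∉ A.borb C E → A.b h⁻¹ F ∈ A.borb C F → A.b h F = F := by
    intro F hFC hFE hF
    by_contra hne
    have hne' : A.b h⁻¹ F ≠ F := fun e => hne (by conv_lhs => rw [← e, A.b_apply_inv])
    obtain ⟨g, hg, hgF⟩ := A.mem_borb.mp hF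
    refine hFE ?_
    rw [← hA.above_eq hE]
    have hsubEC : D.pts C ∩ D.pts F ⊆ D.pts C ∩ D.pts E := fun y hy => by
      simp only [Finset.mem_inter, D.mem_pts] at hy ⊢
      refine ⟨hy.1, A.common_on_axis (inv_mem hh) hne' hy.2 ?_⟩
      rw [← hgF, A.meet_axis hg hy.1]; exact hy.2
    have := Finset.eq_of_subset_of_card_le hsubEC (by rw [D.inter_pts_card hE.symm, D.inter_pts_card hFC.symm])
    simp only [above, Finset.mem_filter, Finset.mem_univ, true_and]
    exact ⟨hFC, this ▸ Finset.inter_subset_right⟩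
  set c := ((A.borb C E).filter fun F => A.b h F = F).card
  set R := (A.Fb h).filter fun F => F ≠ C ∧ F ∉ A.borb C E
  have hsplit : (A.Fb h).card = 1 + c + R.card := by
    have e : A.Fb h = insert C (((A.borb C E).filter fun F => A.b h F = F) ∪ R) := by
      ext F
      simp only [R, Finset.mem_insert, Finset.mem_union, Finset.mem_filter, mem_Fb]
      constructor
      · intro hF
        by_cases h1 : F = C
        · exact Or.inl h1
        · by_cases h2 : F ∈ A.borb C E
          · exact Or.inr (Or.inl ⟨h2, hF⟩)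
          · exact Or.inr (Or.inr ⟨hF, h1, h2⟩)
      · rintro (rfl | ⟨-, hF⟩ | ⟨hF, -⟩)
        exacts [hhC, hF, hF]
    rw [e, Finset.card_insert_of_notMem, Finset.card_union_of_disjoint]
    · omega
    · exact Finset.disjoint_left.mpr fun z h1 h2 => (Finset.mem_filter.mp h2).2.2 (Finset.mem_filter.mp h1).1
    · simp only [R, Finset.mem_union, Finset.mem_filter]
      rintro (⟨h1, -⟩ | ⟨-, h2, -⟩)
      exacts [A.borb_off hE h1 rfl, h2 rfl]
  have hRdvd : t ∣ R.card := by
    refine hA.t_dvd hE R (by simp [R]) fun g hg F hF => ?_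
    simp only [R, Finset.mem_filter, mem_Fb] at hF ⊢
    obtain ⟨hfF, hFC, hFE⟩ := hF
    have hgFC : A.b g F ≠ C := A.borb_off hFC (A.mem_borb.mpr ⟨g, hg, rfl⟩)
    have hgFE : A.b g F ∉ A.borb C E := fun e => hFE <| by
      rw [← A.borb_eq e]; exact A.mem_borb.mpr ⟨g⁻¹, inv_mem hg, A.b_inv_apply g F⟩
    refine ⟨hnew _ hgFC hgFE ?_, hgFC, hgFE⟩
    refine A.mem_borb.mpr ⟨h⁻¹ * g * h * g⁻¹, mul_mem ?_ (inv_mem hg), ?_⟩
    · simpa using A.ker_conj_self (inv_mem (show h ∈ A.stB C from hhC)) hg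
    · rw [A.b_mul, A.b_inv_apply, A.b_mul, A.b_mul, hfF]
  have hc1 : 1 ≤ c := Finset.card_pos.mpr ⟨E, Finset.mem_filter.mpr ⟨A.self_mem_borb C E, A.ker_le_stB E hh⟩⟩
  have hct : c ≤ t := Finset.card_filter_le _ _
  have hFb := A.card_Fb_axial hh
  -- the coset identity
  have hid := hA.coset_identity hE hx (show h ∈ A.stB C from hhC)
  have hNB : (Finset.univ.filter fun F => F ≠ C ∧ A.b h⁻¹ F ∈ A.borb C F).card ≤ t + R.card := by
    refine (Finset.card_le_card (t := A.borb C E ∪ R) fun F hF => ?_).trans (Finset.card_union_le _ _)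
    simp only [Finset.mem_filter, Finset.mem_univ, true_and] at hF
    by_cases h2 : F ∈ A.borb C E
    · exact Finset.mem_union_left _ h2
    · exact Finset.mem_union_right _ (Finset.mem_filter.mpr ⟨by simpa using hnew F hF.1 h2 hF.2, hF.1, h2⟩)
  have hNP : t * D.a ≤ (Finset.univ.filter fun y => ¬ D.I y C ∧ A.p h⁻¹ y ∈ A.korb C y).card := by
    have hdisj : Set.PairwiseDisjoint (↑(A.borb C E) : Set B) fun F => D.pts F \ D.pts C := by
      intro F hF F' hF' hne
      simp only [Function.onFun, Finset.disjoint_left, Finset.mem_sdiff, D.mem_pts]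
      rintro y ⟨h1, h2⟩ ⟨h3, -⟩
      obtain ⟨g, hg, rfl⟩ := A.mem_borb.mp (A.borb_eq (Finset.mem_coe.mp hF) ▸ (Finset.mem_coe.mp hF') : F' ∈ A.borb C F)
      exact h2 (A.common_on_axis hg (Ne.symm hne) h1 h3)
    have e : ((A.borb C E).biUnion fun F => D.pts F \ D.pts C).card = t * D.a := by
      rw [Finset.card_biUnion hdisj]
      refine Finset.sum_const_nat fun F hF => ?_
      rw [← Finset.sdiff_inter_self_left, Finset.card_sdiff_of_subset Finset.inter_subset_left, D.pts_card,
        D.inter_pts_card (A.borb_off hE hF)]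
      have := D.k_eq; omega
    rw [← e]
    refine Finset.card_le_card fun y hy => ?_
    simp only [Finset.mem_biUnion, Finset.mem_sdiff, D.mem_pts] at hy
    obtain ⟨F, hF, hyF, hyC⟩ := hy
    obtain ⟨g, hg, rfl⟩ := A.mem_borb.mp hF
    simp only [Finset.mem_filter, Finset.mem_univ, true_and]
    refine ⟨hyC, ?_⟩
    have hy0E : D.I (A.p g⁻¹ y) E := by rw [← A.inc g, A.p_apply_inv]; exact hyF
    have hfix : A.p h⁻¹ (A.p g⁻¹ y) = A.p g⁻¹ y := (inv_mem hh : h⁻¹ ∈ A.ker E) _ hy0E
    refine A.mem_korb.mpr ⟨h⁻¹ * g * h * g⁻¹, mul_mem ?_ (inv_mem hg), ?_⟩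
    · simpa using A.ker_conj_self (inv_mem (show h ∈ A.stB C from hhC)) hg
    · conv_rhs => rw [← A.p_apply_inv g y]
      rw [A.p_mul, A.p_mul, A.p_mul]
      congr 2
      conv_lhs => rw [← hfix, A.p_apply_inv]
  have hfC : D.lam + j ≤ ((D.pts C).filter fun y => A.p h y = y).card := by
    have e : (D.pts C ∩ D.pts E ∪ A.off E h).card = D.lam + j := by
      rw [Finset.card_union_of_disjoint, D.inter_pts_card hE.symm]
      refine Finset.disjoint_left.mpr fun z h1 h2 => ?_
      simp only [off, Finset.mem_filter] at h2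
      exact h2.2 (by simpa using (Finset.mem_inter.mp h1).2)
    rw [← e]
    refine Finset.card_le_card fun z hz => ?_
    rcases Finset.mem_union.mp hz with h1 | h1
    · simp only [Finset.mem_inter, D.mem_pts] at h1
      simp [h1.1, hh z h1.2]
    · simp only [Finset.mem_filter, D.mem_pts]
      exact ⟨hoffC z h1, by simpa [off] using (Finset.mem_filter.mp h1).1⟩
  have hσ : t * u = σ := hA.orbit_meet hE hx hxE
  have hku : D.k * u + D.lam = D.k + σ * D.lam := hA.orbit_blocks hE hx hxE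
  have ht := hA.one_lt_t hE
  obtain ⟨k', hk'⟩ := hA.t_dvd_k hE
  have hk2 := D.two_lt_k
  change D.k - 1 = t * k' at hk'
  have hk : D.k = t * k' + 1 := by omega
  have hcase : t ≤ c + j * (t - 1) := by
    rcases Nat.lt_or_ge j 1 with hj0 | hj0
    · -- no fixed point off `E`: the whole orbit is fixed
      have hj0' : j = 0 := by omega
      obtain ⟨r, hr⟩ := hRdvd
      have : t ∣ c := by
        refine (Nat.dvd_add_left ⟨r, rfl⟩ (b := c)).mp ⟨k', ?_⟩
        omega
      have := Nat.le_of_dvd hc1 this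
      omega
    · have : 1 * (t - 1) ≤ j * (t - 1) := Nat.mul_le_mul_right _ hj0
      omega
  -- put everything together
  set NB := (Finset.univ.filter fun F => F ≠ C ∧ A.b h⁻¹ F ∈ A.borb C F).card
  set NP := (Finset.univ.filter fun y => ¬ D.I y C ∧ A.p h⁻¹ y ∈ A.korb C y).card
  set fC := ((D.pts C).filter fun y => A.p h y = y).card
  change σ * (t + NB) = t * (σ * fC + NP) at hid
  rw [← hσ] at hid hku
  have hid' : u * (t + NB) = t * u * fC + NP := Nat.eq_of_mul_eq_mul_left (show 0 < t by omega) (by linarith)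
  have m1 : u * (t + NB) ≤ u * (t + (t + R.card)) := Nat.mul_le_mul_left _ (by omega)
  have m2 : t * u * (D.lam + j) ≤ t * u * fC := Nat.mul_le_mul_left _ hfC
  have hkeq := D.k_eq
  obtain ⟨t', ht'⟩ : ∃ t', t = t' + 2 := ⟨t - 2, by omega⟩
  rw [ht', show t' + 2 - 1 = t' + 1 by omega] at hcase
  have hR : R.card + c + 1 = D.k + j := by omega
  have m3 : u * R.card + u * c + u = u * D.k + u * j := by
    have := congrArg (fun z => u * z) hR
    simp only [mul_add, mul_one] at this
    exact this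
  have m4 : u * (t' + 2) ≤ u * c + u * (j * (t' + 1)) := by rw [← mul_add]; exact Nat.mul_le_mul_left _ hcase
  rw [ht'] at hid' m1 m2 hNP hku
  nlinarith

/-- The kernel of a block is transitive on the other points. -/
theorem Axial.transitive (hA : A.Axial) {C : B} {x y : P} (hx : ¬ D.I x C) (hy : ¬ D.I y C) :
    ∃ g ∈ A.ker C, A.p g x = y := by
  rcases eq_or_ne x y with rfl | hne
  · exact ⟨1, one_mem _, by simp⟩
  obtain ⟨E, hE⟩ : (D.blks x ∩ D.blks y).Nonempty :=
    Finset.card_pos.mp (by rw [D.inter_blks_card hne]; exact D.one_le_lam)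
  simp only [Finset.mem_inter, D.mem_blks] at hE
  have hEC : E ≠ C := fun e => hx (e ▸ hE.1)
  exact A.mem_korb.mp (hA.orbit_full hEC hx hE.1 (by simp [hE.2, hy]))

end DAct

end

end CfsgLib.AxD
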