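import Cfsg.Agent.Lib.AxialDesign.Plane
import Cfsg.Agent.Lib.StSL.Presentation

set_option autoImplicit false
set_option linter.unusedSectionVars false

/-!
The group of a linear design with all elations contains the projective special linear group.
-/

namespace CfsgLib.AxD

universe u v w

open scoped Classical

noncomputable section

variable {P : Type u} {B : Type v} [Fintype P] [Fintype B] {D : Des P B} {G : Type w} [Group G]

/-- The automorphisms of a design. -/
def autGrp (D : Des P B) : Subgroup (Equiv.Perm P × Equiv.Perm B) where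
  carrier := {π | ∀ x C, D.I (π.1 x) (π.2 C) ↔ D.I x C}
  one_mem' := fun x C => Iff.rfl
  mul_mem' := fun {g h} hg hh x C => (hg (h.1 x) (h.2 C)).trans (hh x C)
  inv_mem' := fun {g} hg x C => by
    rw [← hg (g⁻¹.1 x) (g⁻¹.2 C)]
    simp

/-- The action of the automorphism group. -/
def autAct (D : Des P B) : DAct D (autGrp D) where
  p := (MonoidHom.fst _ _).comp (autGrp D).subtype
  b := (MonoidHom.snd _ _).comp (autGrp D).subtype
  inc g x C := g.2 x C
  faith g hg := by
    have h1 : ∀ x, g.1.1 x = x := fun x => Equiv.congr_fun hg x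
    refine Subtype.ext (Prod.ext (Equiv.ext h1) (Equiv.ext fun C => D.eq_of_pts (Finset.ext fun x => ?_)))
    rw [D.mem_pts, D.mem_pts]
    have := g.2 x C
    rwa [h1] at this

namespace DAct

variable {A : DAct D G}

/-- An automorphism agreeing with an elation is that elation. -/
theorem rigid {σ : Equiv.Perm P} {τ : Equiv.Perm B} (hinc : ∀ y E, D.I (σ y) (τ E) ↔ D.I y E) {x : P} {C : B}
    (hx : D.I x C) (hC : ∀ y, D.I y C → σ y = y) (hb : ∀ E, D.I x E → τ E = E) {g : G} (hg : g ∈ A.elat x C)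
    {z : P} (hz : ¬ D.I z C) (hgz : A.p g z = σ z) : A.p g = σ := by
  have hgi : g⁻¹ ∈ A.elat x C := inv_mem hg
  let π : autGrp D := ⟨(A.p g⁻¹ * σ, A.b g⁻¹ * τ), fun y E => (A.inc g⁻¹ (σ y) (τ E)).trans (hinc y E)⟩
  have hker : π ∈ (autAct D).ker C := fun y hy => by
    change A.p g⁻¹ (σ y) = y
    rw [hC y hy, hgi.1 y hy]
  have hcent : π ∈ (autAct D).central x := fun E hE => by
    change A.b g⁻¹ (τ E) = E
    rw [hb E hE, hgi.2 E hE]
  have hfix : (autAct D).p π z = z := by
    change A.p g⁻¹ (σ z) = z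
    rw [← hgz, A.p_inv_apply]
  have h1 : π = 1 := (autAct D).two_central hker hcent (y := z)
    (fun E hE => (autAct D).fixed_of_fixed_point hker hz hfix hE) (fun e => hz (e ▸ hx))
  have h2 : A.p g⁻¹ * σ = 1 := congrArg Prod.fst (congrArg Subtype.val h1)
  rwa [map_inv, inv_mul_eq_one] at h2

/-- Elations reach every point of the line through the centre. -/
theorem Axial.exists_elat_image (hA : A.Axial) {x : P} {C : B} (hx : D.I x C) {z w : P} (hz : ¬ D.I z C)
    (hw : ¬ D.I w C) (hline : ∀ E, D.I x E → D.I z E → D.I w E) : ∃ g ∈ A.elat x C, A.p g z = w := by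
  obtain ⟨g, hg, hgz⟩ := hA.transl_trans hz hw
  by_cases hg1 : g = 1
  · subst hg1; exact ⟨1, one_mem _, hgz⟩
  obtain ⟨y, hy, hgy⟩ := hg
  rcases eq_or_ne y x with rfl | hyx
  · exact ⟨g, hgy, hgz⟩
  exfalso
  have hsub : D.blks z ∩ D.blks x ⊆ D.blks x ∩ D.blks y := fun E hE => by
    simp only [Finset.mem_inter, D.mem_blks] at hE ⊢
    refine ⟨hE.2, (elat_fix_iff hy hgy hg1).mp ((A.fixed_iff_image hgy.1 hz hE.1).mpr ?_)⟩
    rw [hgz]
    exact hline E hE.2 hE.1
  have hzx : z ≠ x := fun e => hz (e ▸ hx)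
  have heq := Finset.eq_of_subset_of_card_le hsub
    (by rw [D.inter_blks_card hzx, D.inter_blks_card hyx.symm])
  have : C ∈ D.blks z ∩ D.blks x := by rw [heq]; simp [hx, hy]
  exact hz (by simpa using (Finset.mem_inter.mp this).1)

end DAct

section linear

variable {F : Type} [Field F] [Fintype F] {n : ℕ}

/-- A transvection as a matrix. -/
def tSL (f : (Fin n → F) →ₗ[F] F) (w : Fin n → F) (hw : f w = 0) : Matrix.SpecialLinearGroup (Fin n) F :=
  ⟨LinearMap.toMatrix' (LinearMap.transvection f w), by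
    rw [LinearMap.det_toMatrix', LinearMap.transvection.det, hw, add_zero]⟩

theorem tSL_smul (f : (Fin n → F) →ₗ[F] F) (w : Fin n → F) (hw : f w = 0) (v : Fin n → F) :
    tSL f w hw • v = v + f v • w := by
  rw [Matrix.SpecialLinearGroup.smul_def]
  exact LinearMap.toMatrix'_mulVec (LinearMap.transvection f w) v

theorem transvection_eq_tSL {i j : Fin n} (h : i ≠ j) (t : F) :
    Matrix.SpecialLinearGroup.transvection h t =
      tSL (LinearMap.proj j) (Pi.single i t) (by simp [Ne.symm h]) := by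
  refine Subtype.ext ?_
  change Matrix.transvection i j t = LinearMap.toMatrix' (LinearMap.transvection (LinearMap.proj j) (Pi.single i t))
  apply Matrix.toLin'.injective
  rw [Matrix.toLin'_toMatrix']
  refine LinearMap.ext fun v => funext fun a => ?_
  rw [Matrix.toLin'_apply, Matrix.transvection, Matrix.add_mulVec, Matrix.one_mulVec, Matrix.single_mulVec_eq,
    LinearMap.transvection.apply]
  rcases eq_or_ne a i with rfl | hai
  · simp [mul_comm]
  · simp [hai]

end linear

/-- A linear structure on a design. -/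
structure Lin (D : Des P B) where
  m : ℕ
  F : Type
  [instF : Field F]
  [instFF : Fintype F]
  hm : 2 ≤ m
  φ : P ≃ Projectivization F (Fin (m + 1) → F)
  fB : B → (Fin (m + 1) → F) →ₗ[F] F
  fB_ne : ∀ C, fB C ≠ 0
  hI : ∀ x C, D.I x C ↔ (φ x).submodule ≤ LinearMap.ker (fB C)

attribute [instance] Lin.instF Lin.instFF

theorem Des.Linear.exists_lin (h : D.Linear) : Nonempty (Lin D) := by
  obtain ⟨m, F, iF, iFF, φ, hm, hb⟩ := h
  choose f hf0 hf using hb
  exact ⟨{ m := m, F := F, hm := hm, φ := φ, fB := f, fB_ne := hf0, hI := fun x C => hf C x }⟩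

namespace Lin

variable (L : Lin D)

/-- The coordinate space. -/
abbrev V : Type := Fin (L.m + 1) → L.F

/-- The point with given coordinates. -/
def point {v : L.V} (hv : v ≠ 0) : P := L.φ.symm (Projectivization.mk L.F v hv)

theorem hI' {v : L.V} (hv : v ≠ 0) (C : B) : D.I (L.point hv) C ↔ L.fB C v = 0 := by
  rw [L.hI, point, Equiv.apply_symm_apply, submodule_le_ker]

theorem exists_point (x : P) : ∃ v, ∃ hv : v ≠ 0, L.point hv = x :=
  ⟨(L.φ x).rep, (L.φ x).rep_nonzero, by rw [point, Projectivization.mk_rep, Equiv.symm_apply_apply]⟩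

theorem eq_of_ker {C E : B} (h : ∀ v, L.fB C v = 0 ↔ L.fB E v = 0) : C = E := by
  refine D.eq_of_pts (Finset.ext fun x => ?_)
  obtain ⟨v, hv, rfl⟩ := L.exists_point x
  simp [L.hI', h]

/-- Every hyperplane is a block. -/
theorem exists_block {f : L.V →ₗ[L.F] L.F} (hf : f ≠ 0) : ∃ C, ∀ v, L.fB C v = 0 ↔ f v = 0 := by
  let θ : B → Projectivization L.F (L.V →ₗ[L.F] L.F) := fun C => Projectivization.mk L.F (L.fB C) (L.fB_ne C)
  have hinj : Function.Injective θ := fun C E e => by
    obtain ⟨r, hr⟩ := (Projectivization.mk_eq_mk_iff' L.F _ _ (L.fB_ne C) (L.fB_ne E)).mp e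
    have hr0 : r ≠ 0 := fun h => L.fB_ne C (by rw [← hr, h, zero_smul])
    refine L.eq_of_ker fun v => ?_
    rw [← hr, LinearMap.smul_apply, smul_eq_mul, mul_eq_zero]
    simp [hr0]
  haveI : Finite (L.V →ₗ[L.F] L.F) := Module.finite_of_finite L.F
  have hbij : Function.Bijective θ := (Nat.bijective_iff_injective_and_card θ).mpr ⟨hinj, by
    rw [Nat.card_eq_fintype_card, D.card_B, ← Nat.card_eq_fintype_card, Nat.card_congr L.φ,
      Projectivization.card_of_finrank L.F (L.V) (Module.finrank_fin_fun L.F),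
      Projectivization.card_of_finrank L.F (L.V →ₗ[L.F] L.F)
        ((Subspace.dual_finrank_eq).trans (Module.finrank_fin_fun L.F))]⟩
  obtain ⟨C, hC⟩ := hbij.2 (Projectivization.mk L.F f hf)
  obtain ⟨r, hr⟩ := (Projectivization.mk_eq_mk_iff' L.F _ _ (L.fB_ne C) hf).mp hC
  have hr0 : r ≠ 0 := fun h => L.fB_ne C (by rw [← hr, h, zero_smul])
  refine ⟨C, fun v => ?_⟩
  rw [← hr, LinearMap.smul_apply, smul_eq_mul, mul_eq_zero]
  simp [hr0]

/-- The permutation of the points induced by a matrix. -/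
def sig (g : Matrix.SpecialLinearGroup (Fin (L.m + 1)) L.F) : Equiv.Perm P :=
  L.φ.symm.permCongr (MulAction.toPermHom _ (Projectivization L.F L.V) g)

theorem sig_point (g : Matrix.SpecialLinearGroup (Fin (L.m + 1)) L.F) {v : L.V} (hv : v ≠ 0) :
    L.sig g (L.point hv) = L.point ((smul_ne_zero_iff_ne g).mpr hv) := by
  simp [sig, point, Projectivization.smul_mk]

variable {A : DAct D G}

/-- Every transvection is induced by an elation. -/
theorem tv_mem (hA : A.Axial) {f : L.V →ₗ[L.F] L.F} {w : L.V} (hw : f w = 0) {x : P} {C : B} (hx : D.I x C)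
    (hxw : ∀ E, D.I x E → L.fB E w = 0) (hC : ∀ v, L.fB C v = 0 ↔ f v = 0) :
    ∃ g ∈ A.elat x C, A.p g = L.sig (tSL f w hw) := by
  have hblock : ∀ E, ∃ E', ∀ v, L.fB E' (tSL f w hw • v) = 0 ↔ L.fB E v = 0 := fun E => by
    have hf' : (L.fB E).comp (LinearMap.transvection f (-w)) ≠ 0 := fun e => by
      refine L.fB_ne E (LinearMap.ext fun v => ?_)
      have := LinearMap.congr_fun e (v + f v • w)
      simpa [LinearMap.transvection.apply, hw] using this
    obtain ⟨E', hE'⟩ := L.exists_block hf'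
    refine ⟨E', fun v => ?_⟩
    rw [hE', tSL_smul]
    simp [LinearMap.transvection.apply, hw]
  choose τ₀ hτ₀ using hblock
  have hinc : ∀ y E, D.I (L.sig (tSL f w hw) y) (τ₀ E) ↔ D.I y E := fun y E => by
    obtain ⟨v, hv, rfl⟩ := L.exists_point y
    rw [L.sig_point, L.hI', L.hI', hτ₀]
  have hinj : Function.Injective τ₀ := fun E E' e => D.eq_of_pts (Finset.ext fun y => by
    rw [D.mem_pts, D.mem_pts, ← hinc y E, e, hinc y E'])
  let τ : Equiv.Perm B := Equiv.ofBijective τ₀ (Finite.injective_iff_bijective.mp hinj)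
  have hfixC : ∀ y, D.I y C → L.sig (tSL f w hw) y = y := fun y hy => by
    obtain ⟨v, hv, rfl⟩ := L.exists_point y
    rw [L.sig_point]
    have : tSL f w hw • v = v := by rw [tSL_smul, (hC v).mp ((L.hI' hv C).mp hy), zero_smul, add_zero]
    simp [point, this]
  have hb : ∀ E, D.I x E → τ E = E := fun E hE => by
    refine L.eq_of_ker fun v => ?_
    have h1 := hτ₀ E (v - f v • w)
    rw [tSL_smul] at h1
    simp only [map_sub, map_smul, hw, smul_zero, sub_zero, sub_add_cancel, hxw E hE] at h1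
    exact h1
  obtain ⟨v₀, hv₀⟩ : ∃ v₀, L.fB C v₀ ≠ 0 := by
    by_contra! h
    exact L.fB_ne C (LinearMap.ext h)
  have hv₀0 : v₀ ≠ 0 := fun e => hv₀ (by rw [e, map_zero])
  have hz : ¬ D.I (L.point hv₀0) C := fun e => hv₀ ((L.hI' hv₀0 C).mp e)
  have hw' : ¬ D.I (L.sig (tSL f w hw) (L.point hv₀0)) C := fun e => hz (by
    have h1 := hfixC _ e
    rwa [(L.sig (tSL f w hw)).injective h1] at e)
  obtain ⟨g, hg, hgz⟩ := hA.exists_elat_image hx hz hw' fun E hxE hzE => by
    rw [L.sig_point, L.hI', tSL_smul, map_add, map_smul, (L.hI' hv₀0 E).mp hzE, hxw E hxE]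
    simp
  exact ⟨g, hg, DAct.rigid (τ := τ) hinc hx hfixC hb hg hz hgz⟩

/-- Every elation is induced by a transvection. -/
theorem elat_mem (hA : A.Axial) {x : P} {C : B} (hx : D.I x C) {g : G} (hg : g ∈ A.elat x C) :
    ∃ M, A.p g = L.sig M := by
  by_cases hg1 : g = 1
  · refine ⟨1, ?_⟩
    subst hg1
    ext y
    simp [sig]
  obtain ⟨a, ha, rfl⟩ := L.exists_point x
  obtain ⟨v₀, hv₀⟩ : ∃ v₀, L.fB C v₀ ≠ 0 := by
    by_contra! h
    exact L.fB_ne C (LinearMap.ext h)
  have hv₀0 : v₀ ≠ 0 := fun e => hv₀ (by rw [e, map_zero])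
  have hz : ¬ D.I (L.point hv₀0) C := fun e => hv₀ ((L.hI' hv₀0 C).mp e)
  obtain ⟨u, hu, hgz⟩ := L.exists_point (A.p g (L.point hv₀0))
  have hspan : u ∈ Submodule.span L.F {v₀, a} := by
    by_contra hc
    obtain ⟨f, hfu, hf⟩ := Submodule.exists_le_ker_of_notMem hc
    obtain ⟨E, hE⟩ := L.exists_block (f := f) fun e => hfu (by rw [e]; rfl)
    have h1 : D.I (L.point hv₀0) E := (L.hI' _ E).mpr ((hE _).mpr (hf (Submodule.subset_span (by simp))))
    have h2 : D.I (L.point ha) E := (L.hI' _ E).mpr ((hE _).mpr (hf (Submodule.subset_span (by simp))))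
    have h3 : D.I (A.p g (L.point hv₀0)) E := by
      rw [← hg.2 E h2, A.inc]; exact h1
    rw [← hgz, L.hI', hE] at h3
    exact hfu h3
  obtain ⟨r, s, hrs⟩ := Submodule.mem_span_pair.mp hspan
  have hac : L.fB C a = 0 := (L.hI' ha C).mp hx
  have hr : r ≠ 0 := by
    intro h
    have h1 : D.I (A.p g (L.point hv₀0)) C := by
      rw [← hgz, L.hI', ← hrs, h]
      simp [hac]
    rw [← hg.2 C hx, A.inc] at h1
    exact hz h1
  set c := L.fB C v₀
  have hw : L.fB C ((s / (r * c)) • a) = 0 := by rw [map_smul, hac, smul_zero]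
  obtain ⟨g', hg', hg'eq⟩ := L.tv_mem hA hw hx
    (fun E hE => by rw [map_smul, (L.hI' ha E).mp hE, smul_zero]) fun v => Iff.rfl
  refine ⟨tSL (L.fB C) ((s / (r * c)) • a) hw, ?_⟩
  rw [← hg'eq]
  congr 1
  refine (inv_mul_eq_one.mp (A.elat_free hx (mul_mem (inv_mem hg) hg') hz ?_))
  rw [A.p_mul, show A.p g' (L.point hv₀0) = A.p g (L.point hv₀0) from ?_, A.p_inv_apply]
  rw [hg'eq, L.sig_point, ← hgz]
  unfold point
  congr 1
  rw [Projectivization.mk_eq_mk_iff']
  refine ⟨r⁻¹, ?_⟩
  rw [tSL_smul, ← hrs, smul_add, smul_smul, smul_smul, smul_smul, inv_mul_cancel₀ hr, one_smul]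
  congr 2
  field_simp
  rfl

/-- The subgroup generated by the elations. -/
def elatClosure (A : DAct D G) : Subgroup G :=
  Subgroup.closure {g | ∃ x C, D.I x C ∧ g ∈ A.elat x C}

theorem elatClosure_normal (A : DAct D G) : (elatClosure A).Normal := by
  refine ⟨fun n hn g => ?_⟩
  have : (elatClosure A).map (MulAut.conj g).toMonoidHom ≤ elatClosure A := by
    rw [elatClosure, MonoidHom.map_closure, Subgroup.closure_le]
    rintro _ ⟨h, ⟨x, C, hxC, hh⟩, rfl⟩
    exact Subgroup.subset_closure ⟨_, _, (A.inc g x C).mpr hxC, A.elat_conj hh⟩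
  exact this ⟨n, hn, rfl⟩

theorem centralizer_elatClosure (hA : A.Axial) : Subgroup.centralizer (elatClosure A : Set G) = ⊥ := by
  rw [Subgroup.eq_bot_iff_forall]
  intro g hg
  refine A.faith g (Equiv.ext fun x => ?_)
  obtain ⟨C, hC⟩ : (D.blks x).Nonempty :=
    Finset.card_pos.mp (by rw [D.blks_card]; have := D.two_lt_k; omega)
  rw [D.mem_blks] at hC
  obtain ⟨h, hh, hh1⟩ := hA.elat_nontriv hC
  have h1 := A.elat_conj (g := g) hh
  rw [← Subgroup.mem_centralizer_iff.mp hg h (Subgroup.subset_closure ⟨x, C, hC, hh⟩), mul_inv_cancel_right] at h1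
  have h2 := A.elat_Fb hC hh hh1
  have h3 := A.elat_Fb ((A.inc g x C).mpr hC) h1 hh1
  rw [Equiv.Perm.one_apply]
  exact D.eq_of_blks (h3.symm.trans h2)

theorem sig_mul (g h : Matrix.SpecialLinearGroup (Fin (L.m + 1)) L.F) : L.sig (g * h) = L.sig g * L.sig h := by
  ext x
  simp [sig, mul_smul]

/-- The permutation representation of the special linear group on the points. -/
def sigHom : Matrix.SpecialLinearGroup (Fin (L.m + 1)) L.F →* Equiv.Perm P := MonoidHom.mk' L.sig L.sig_mul

theorem ker_sigHom : L.sigHom.ker = Subgroup.center (Matrix.SpecialLinearGroup (Fin (L.m + 1)) L.F) := by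
  rw [← Projectivization.SL_mulAction_ker]
  ext M
  simp only [MonoidHom.mem_ker]
  constructor
  · intro h
    ext y
    have := Equiv.congr_fun h (L.φ.symm y)
    simpa [sigHom, sig] using this
  · intro h
    ext y
    simp only [sigHom, MonoidHom.mk'_apply, sig, h]
    simp

theorem map_elatClosure (hA : A.Axial) : (elatClosure A).map A.p = L.sigHom.range := by
  refine le_antisymm ?_ ?_
  · rw [elatClosure, MonoidHom.map_closure, Subgroup.closure_le]
    rintro _ ⟨g, ⟨x, C, hx, hg⟩, rfl⟩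
    obtain ⟨M, hM⟩ := L.elat_mem hA hx hg
    exact ⟨M, hM.symm⟩
  · rw [MonoidHom.range_eq_map, ← StSL.closure_transvection_eq_top (K := L.F) (show 2 ≤ L.m + 1 by have := L.hm; omega),
      MonoidHom.map_closure, Subgroup.closure_le]
    rintro _ ⟨_, ⟨i, j, hij, t, rfl⟩, rfl⟩
    have he : (Pi.single i 1 : L.V) ≠ 0 := fun e => by simpa using congrFun e i
    have hf : (LinearMap.proj j : L.V →ₗ[L.F] L.F) ≠ 0 := fun e => by
      simpa using LinearMap.congr_fun e (Pi.single j 1)
    obtain ⟨C, hC⟩ := L.exists_block hf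
    obtain ⟨g, hg, hgeq⟩ := L.tv_mem hA (f := LinearMap.proj j) (w := Pi.single i t) (by simp [Ne.symm hij])
      (x := L.point he) ((L.hI' he C).mpr ((hC _).mpr (by simp [Ne.symm hij])))
      (fun E hE => by
        rw [show (Pi.single i t : L.V) = t • Pi.single i 1 by rw [← Pi.single_smul, smul_eq_mul, mul_one],
          map_smul, (L.hI' he E).mp hE, smul_zero]) hC
    refine ⟨g, Subgroup.subset_closure ⟨_, C, (L.hI' he C).mpr ((hC _).mpr (by simp [Ne.symm hij])), hg⟩, ?_⟩
    rw [hgeq, transvection_eq_tSL]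
    rfl

end Lin

/-- The group contains the projective special linear group with trivial centraliser. -/
theorem Axial.recognition {A : DAct D G} (hA : A.Axial)
    (h2p : ∀ x y x' y', x ≠ y → x' ≠ y' → ∃ g, A.p g x = x' ∧ A.p g y = y') :
    ∃ (m : ℕ) (F : Type) (_ : Field F) (_ : Fintype F), 2 ≤ m ∧
      Nat.card P = (Fintype.card F ^ (m + 1) - 1) / (Fintype.card F - 1) ∧
      ∃ N : Subgroup G, N.Normal ∧ Nonempty (N ≃* Matrix.ProjectiveSpecialLinearGroup (Fin (m + 1)) F) ∧
        Subgroup.centralizer (N : Set G) = ⊥ := by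
  obtain ⟨L⟩ := (Axial.linear hA h2p).exists_lin
  refine ⟨L.m, L.F, L.instF, L.instFF, L.hm, ?_, Lin.elatClosure A, Lin.elatClosure_normal A, ?_,
    Lin.centralizer_elatClosure hA⟩
  · rw [Nat.card_congr L.φ, Projectivization.card'' L.F, Nat.card_fun, Nat.card_fin, Nat.card_eq_fintype_card]
  · exact ⟨(Subgroup.equivMapOfInjective _ A.p ((injective_iff_map_eq_one _).mpr A.faith)).trans
      ((MulEquiv.subgroupCongr (L.map_elatClosure hA)).trans
        ((QuotientGroup.quotientKerEquivRange L.sigHom).symm.trans (QuotientGroup.quotientMulEquivOfEq L.ker_sigHom)))⟩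

end

end CfsgLib.AxD
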