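import Cfsg.Agent.Lib.AxialDesign.Coord
import Cfsg.Agent.S3732

set_option autoImplicit false
set_option linter.unusedSectionVars false

/-!
The case of meets of size one: a projective plane.
-/

namespace CfsgLib.AxD

universe u v w

open scoped Classical

noncomputable section

variable {P : Type u} {B : Type v} [Fintype P] [Fintype B] {D : Des P B} {G : Type w} [Group G]

theorem linear_of_one (A : DAct D G) (hlam : D.lam = 1)
    (h2p : ∀ x y x' y', x ≠ y → x' ≠ y' → ∃ g, A.p g x = x' ∧ A.p g y = y') : D.Linear := by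
  letI : Membership P B := ⟨fun C x => D.I x C⟩
  have hmem : ∀ (x : P) (C : B), x ∈ C ↔ D.I x C := fun _ _ => Iff.rfl
  have hk := D.two_lt_k
  have hkv : 2 * D.k ≤ Fintype.card P := by
    have h1 := D.k_mul
    have h2 := D.k_eq
    rw [hlam] at h1 h2
    nlinarith
  have hcov : ∀ C E : B, ∃ x, ¬ D.I x C ∧ ¬ D.I x E := fun C E => by
    rcases eq_or_ne C E with rfl | hne
    · obtain ⟨x, hx⟩ : ((D.pts C)ᶜ).Nonempty :=
        Finset.card_pos.mp (by rw [Finset.card_compl, D.pts_card]; omega)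
      exact ⟨x, by simpa using hx, by simpa using hx⟩
    · have h1 := Finset.card_union_add_card_inter (D.pts C) (D.pts E)
      rw [D.inter_pts_card hne, D.pts_card, D.pts_card] at h1
      obtain ⟨x, hx⟩ : ((D.pts C ∪ D.pts E)ᶜ).Nonempty :=
        Finset.card_pos.mp (by rw [Finset.card_compl]; omega)
      exact ⟨x, by simpa [not_or] using hx⟩
  have hcov' : ∀ x y : P, ∃ C, ¬ D.I x C ∧ ¬ D.I y C := fun x y => by
    rcases eq_or_ne x y with rfl | hne
    · obtain ⟨C, hC⟩ : ((D.blks x)ᶜ).Nonempty :=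
        Finset.card_pos.mp (by rw [Finset.card_compl, D.blks_card, D.card_B]; omega)
      exact ⟨C, by simpa using hC, by simpa using hC⟩
    · have h1 := Finset.card_union_add_card_inter (D.blks x) (D.blks y)
      rw [D.inter_blks_card hne, D.blks_card, D.blks_card] at h1
      obtain ⟨C, hC⟩ : ((D.blks x ∪ D.blks y)ᶜ).Nonempty :=
        Finset.card_pos.mp (by rw [Finset.card_compl, D.card_B]; omega)
      exact ⟨C, by simpa [not_or] using hC⟩
  have hline : ∀ {x y : P}, x ≠ y → ∃ C, D.I x C ∧ D.I y C := fun {x y} h => by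
    obtain ⟨C, hC⟩ : (D.blks x ∩ D.blks y).Nonempty :=
      Finset.card_pos.mp (by rw [D.inter_blks_card h]; omega)
    exact ⟨C, by simpa using hC⟩
  have hpoint : ∀ {C E : B}, C ≠ E → ∃ x, D.I x C ∧ D.I x E := fun {C E} h => by
    obtain ⟨x, hx⟩ : (D.pts C ∩ D.pts E).Nonempty := Finset.card_pos.mp (by rw [D.inter_pts_card h]; omega)
    exact ⟨x, by simpa using hx⟩
  have huniq : ∀ {x y : P} {C E : B}, D.I x C → D.I y C → D.I x E → D.I y E → x = y ∨ C = E := by
    intro x y C E h1 h2 h3 h4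
    by_contra! hc
    have h5 : ({x, y} : Finset P) ⊆ D.pts C ∩ D.pts E := by
      intro z hz
      simp only [Finset.mem_insert, Finset.mem_singleton] at hz
      rcases hz with rfl | rfl <;> simp [h1, h2, h3, h4]
    have := Finset.card_le_card h5
    rw [Finset.card_pair hc.1, D.inter_pts_card hc.2] at this
    omega
  have hconfig : ∃ (p₁ p₂ p₃ : P) (l₁ l₂ l₃ : B),
      p₁ ∉ l₂ ∧ p₁ ∉ l₃ ∧ p₂ ∉ l₁ ∧ p₂ ∈ l₂ ∧ p₂ ∈ l₃ ∧ p₃ ∉ l₁ ∧ p₃ ∈ l₂ ∧ p₃ ∉ l₃ := by
    obtain ⟨l₂⟩ : Nonempty B := Fintype.card_pos_iff.mp (by rw [D.card_B]; omega)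
    obtain ⟨l₃, h23⟩ := DAct.exists_ne_block D l₂
    obtain ⟨x₂, a, b⟩ := hpoint h23.symm
    obtain ⟨x₃, c, d⟩ := DAct.exists_not_on (D := D) h23.symm
    obtain ⟨x₁, e, f⟩ := hcov l₂ l₃
    obtain ⟨l₁, g, h⟩ := hcov' x₂ x₃
    exact ⟨x₁, x₂, x₃, l₁, l₂, l₃, e, f, g, a, b, h, c, d⟩
  letI : Configuration.ProjectivePlane P B :=
    { exists_point := fun C => by obtain ⟨x, hx, -⟩ := hcov C C; exact ⟨x, hx⟩
      exists_line := fun x => by obtain ⟨C, hC, -⟩ := hcov' x x; exact ⟨C, hC⟩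
      eq_or_eq := fun h1 h2 h3 h4 => huniq h1 h2 h3 h4
      mkPoint := fun h => (hpoint h).choose
      mkPoint_ax := fun h => (hpoint h).choose_spec
      mkLine := fun h => (hline h).choose
      mkLine_ax := fun h => (hline h).choose_spec
      exists_config := hconfig }
  obtain ⟨F, iF, iFF, φ, h1, -⟩ := Cfsg.Agent.S3732.result (P := P) (L := B) fun x y x' y' h h' => by
    obtain ⟨g, e1, e2⟩ := h2p x y x' y' h h'
    exact ⟨A.p g, A.b g, fun z C => A.inc g z C, e1, e2⟩
  refine ⟨2, F, iF, iFF, φ, le_rfl, fun C => ?_⟩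
  obtain ⟨W, hW, hC⟩ := h1 C
  have hlt : W < ⊤ := lt_top_iff_ne_top.mpr fun e => by
    rw [e, finrank_top, Module.finrank_fin_fun] at hW
    omega
  obtain ⟨f, hf0, hWf⟩ := Submodule.exists_le_ker_of_lt_top W hlt
  have hrn := LinearMap.finrank_range_add_finrank_ker f
  rw [LinearMap.range_eq_top.mpr (LinearMap.surjective_of_ne_zero hf0), finrank_top, Module.finrank_self,
    Module.finrank_fin_fun] at hrn
  have hWeq : W = LinearMap.ker f := Submodule.eq_of_le_of_finrank_eq hWf (by omega)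
  exact ⟨f, hf0, fun x => by rw [← hmem, hC, hWeq]⟩

/-- Every design with all elations is linear. -/
theorem Axial.linear {A : DAct D G} (hA : A.Axial)
    (h2p : ∀ x y x' y', x ≠ y → x' ≠ y' → ∃ g, A.p g x = x' ∧ A.p g y = y') : D.Linear := by
  rcases Nat.lt_or_ge D.lam 2 with h | h
  · exact linear_of_one A (by have := D.one_le_lam; omega) h2p
  · exact Axial.linear_of_two_le hA h

end

end CfsgLib.AxD
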