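import Cfsg.Agent.Lib.AxialDesign.Frame

set_option autoImplicit false
set_option linter.unusedSectionVars false

/-!
Transvections of the translation group and the field they define.
-/

namespace CfsgLib.AxD

universe u v w

open scoped Classical

noncomputable section

variable {P : Type u} {B : Type v} [Fintype P] [Fintype B] {D : Des P B} {G : Type w} [Group G]

namespace Basis

variable {A : DAct D G} (S : Basis A)

/-- The index of the reference centre. -/
def i₀ : Fin S.m := ⟨0, by have := S.hm; omega⟩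

/-- The translations with the reference centre. -/
abbrev U : Type w := ↥(S.toFrame.K (S.x S.i₀))

theorem card_U : Nat.card S.U = D.t := S.toFrame.card_K (S.hx _)

theorem finiteU : Finite S.U := by
  haveI := S.toFrame.finiteV
  infer_instance

theorem nontrivialU : Nontrivial S.U := by
  haveI := S.finiteU
  rw [← Finite.one_lt_card_iff_nontrivial, S.card_U]
  exact S.hA.two_le_t

/-- An elation with centre on the block, as an element of its stabiliser. -/
def tv {i : Fin S.m} {E : B} {g : G} (hg : g ∈ A.elat (S.x i) E) : A.stB S.C := ⟨g, hg.2 _ (S.hx i)⟩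

theorem conj_fix_other {i j l : Fin S.m} {g : G} (hg : g ∈ A.elat (S.x i) (S.blk j)) (hl : l ≠ j) {v : S.toFrame.V}
    (hv : v ∈ S.toFrame.K (S.x l)) : S.toFrame.conj (S.tv hg) v = v :=
  S.toFrame.conj_fix (S.hblkO j) _ hg.1 (S.toFrame.K_le_stab (S.hblk j l hl) hv)

theorem exists_base {i : Fin S.m} (hi : i ≠ S.i₀) : ∃ g, g ∈ A.elat (S.x i) (S.blk S.i₀) ∧ g ≠ 1 :=
  S.hA.elat_nontriv (S.hblk _ _ hi)

/-- Identifications of the reference centre with the other ones. -/
def ι (i : Fin S.m) : S.U →+ S.toFrame.V :=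
  if h : i = S.i₀ then (S.toFrame.K (S.x S.i₀)).subtype
  else (S.toFrame.conj (S.tv (S.exists_base h).choose_spec.1)).comp (S.toFrame.K (S.x S.i₀)).subtype -
    (S.toFrame.K (S.x S.i₀)).subtype

theorem ι_self (u : S.U) : S.ι S.i₀ u = (u : S.toFrame.V) := by simp [ι]

theorem ι_mem (i : Fin S.m) (u : S.U) : S.ι i u ∈ S.toFrame.K (S.x i) := by
  by_cases h : i = S.i₀
  · subst h; rw [S.ι_self]; exact u.2
  · rw [ι, dif_neg h]
    exact S.toFrame.conj_sub_mem (S.hx i) _ (S.exists_base h).choose_spec.1.2 _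

theorem not_stab {j : Fin S.m} {v : S.toFrame.V} (hv : v ∈ S.toFrame.K (S.x j)) (h0 : v ≠ 0) :
    v ∉ S.toFrame.stab (S.blk j) := fun h => S.hblk' j (S.toFrame.meet_of_stab (S.hx j) hv h0 h)

theorem eq_one_of_fix {i j : Fin S.m} (hij : i ≠ j) {g : G} (hg : g ∈ A.elat (S.x i) (S.blk j)) {v : S.toFrame.V}
    (hv : v ∈ S.toFrame.K (S.x j)) (h0 : v ≠ 0) (h : S.toFrame.conj (S.tv hg) v = v) : g = 1 :=
  S.toFrame.eq_one_of_conj_fix (S.hblk j i hij) (S.hblkO j) (S.tv hg) hg (S.not_stab hv h0) h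

theorem ι_inj (i : Fin S.m) : Function.Injective (S.ι i) := by
  refine (injective_iff_map_eq_zero _).mpr fun u hu => ?_
  by_cases h : i = S.i₀
  · subst h; rw [S.ι_self] at hu; exact Subtype.ext hu
  · rw [ι, dif_neg h] at hu
    by_contra h0
    exact (S.exists_base h).choose_spec.2 (S.eq_one_of_fix h (S.exists_base h).choose_spec.1 u.2
      (fun e => h0 (Subtype.ext e)) (sub_eq_zero.mp hu))

theorem ι_surj (i : Fin S.m) {v : S.toFrame.V} (hv : v ∈ S.toFrame.K (S.x i)) : ∃ u, S.ι i u = v := by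
  haveI := S.finiteU
  haveI := S.toFrame.finiteV
  have hbij := (Nat.bijective_iff_injective_and_card
    (fun u => (⟨S.ι i u, S.ι_mem i u⟩ : S.toFrame.K (S.x i)))).mpr
    ⟨fun a b e => S.ι_inj i (congrArg Subtype.val e), by rw [S.card_U, S.toFrame.card_K (S.hx i)]⟩
  obtain ⟨u, hu⟩ := hbij.2 ⟨v, hv⟩
  exact ⟨u, congrArg Subtype.val hu⟩

/-- The endomorphism by which an elation acts between two centres. -/
def Slope (i j : Fin S.m) {g : G} (hg : g ∈ A.elat (S.x i) (S.blk j)) (f : AddMonoid.End S.U) : Prop :=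
  ∀ u, S.toFrame.conj (S.tv hg) (S.ι j u) = S.ι j u + S.ι i (f u)

theorem exists_slope (i j : Fin S.m) {g : G} (hg : g ∈ A.elat (S.x i) (S.blk j)) : ∃ f, S.Slope i j hg f := by
  choose f hf using fun u => S.ι_surj i (S.toFrame.conj_sub_mem (S.hx i) (S.tv hg) hg.2 (S.ι j u))
  refine ⟨AddMonoidHom.mk' f fun a b => S.ι_inj i ?_, fun u => ?_⟩
  · simp only [map_add, hf]; abel
  · change _ = S.ι j u + S.ι i (f u)
    rw [hf]; abel

/-- The endomorphisms arising between two centres. -/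
def slopes (i j : Fin S.m) : Set (AddMonoid.End S.U) :=
  {f | ∃ g, ∃ hg : g ∈ A.elat (S.x i) (S.blk j), S.Slope i j hg f}

theorem slope_unique {i j : Fin S.m} {g : G} {hg : g ∈ A.elat (S.x i) (S.blk j)} {f f' : AddMonoid.End S.U}
    (h : S.Slope i j hg f) (h' : S.Slope i j hg f') : f = f' :=
  AddMonoidHom.ext fun u => S.ι_inj i (add_left_cancel ((h u).symm.trans (h' u)))

theorem slope_eq_one {i j : Fin S.m} (hij : i ≠ j) {g : G} {hg : g ∈ A.elat (S.x i) (S.blk j)}
    {f : AddMonoid.End S.U} (h : S.Slope i j hg f) {u : S.U} (h0 : u ≠ 0) (hu : f u = 0) : g = 1 :=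
  S.eq_one_of_fix hij hg (S.ι_mem j u) (fun e => h0 (S.ι_inj j (e.trans (map_zero (S.ι j)).symm)))
    (by rw [h u, hu, map_zero, add_zero])

theorem slope_one {i j : Fin S.m} {g : G} {hg : g ∈ A.elat (S.x i) (S.blk j)} (h1 : g = 1)
    {f : AddMonoid.End S.U} (h : S.Slope i j hg f) : f = 0 := by
  refine AddMonoidHom.ext fun u => S.ι_inj i ?_
  have e : S.toFrame.conj (S.tv hg) (S.ι j u) = S.ι j u := by
    rw [show S.tv hg = 1 from Subtype.ext h1, Frame.conj_one]
  have := (h u).symm.trans e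
  rw [add_eq_left] at this
  exact this.trans (map_zero _).symm

theorem slope_mul {i j : Fin S.m} (hij : i ≠ j) {g g' : G} {hg : g ∈ A.elat (S.x i) (S.blk j)}
    {hg' : g' ∈ A.elat (S.x i) (S.blk j)} {f f' : AddMonoid.End S.U} (h : S.Slope i j hg f)
    (h' : S.Slope i j hg' f') : S.Slope i j (mul_mem hg hg') (f + f') := fun u => by
  rw [show S.tv (mul_mem hg hg') = S.tv hg * S.tv hg' from rfl, Frame.conj_mul, h' u, map_add, h u,
    S.conj_fix_other hg hij (S.ι_mem i _)]
  change _ = S.ι j u + S.ι i (f u + f' u)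
  rw [map_add, add_assoc]

theorem slopes_inj {i j : Fin S.m} (hij : i ≠ j) {f : AddMonoid.End S.U} (hf : f ∈ S.slopes i j) (h0 : f ≠ 0)
    {u : S.U} (hu : f u = 0) : u = 0 := by
  obtain ⟨g, hg, h⟩ := hf
  by_contra hu0
  exact h0 (S.slope_one (S.slope_eq_one hij h hu0 hu) h)

theorem slopes_add {i j : Fin S.m} (hij : i ≠ j) {f f' : AddMonoid.End S.U} (hf : f ∈ S.slopes i j)
    (hf' : f' ∈ S.slopes i j) : f + f' ∈ S.slopes i j := by
  obtain ⟨g, hg, h⟩ := hf
  obtain ⟨g', hg', h'⟩ := hf'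
  exact ⟨g * g', mul_mem hg hg', S.slope_mul hij h h'⟩

theorem zero_mem_slopes (i j : Fin S.m) : (0 : AddMonoid.End S.U) ∈ S.slopes i j := by
  obtain ⟨f, hf⟩ := S.exists_slope i j (one_mem (A.elat (S.x i) (S.blk j)))
  exact ⟨1, one_mem _, S.slope_one rfl hf ▸ hf⟩

theorem card_slopes {i j : Fin S.m} (hij : i ≠ j) : Nat.card (S.slopes i j) = D.t := by
  haveI := S.finiteU
  choose f hf using fun g : A.elat (S.x i) (S.blk j) => S.exists_slope i j g.2
  rw [← S.hA.card_elat (S.hblk j i hij)]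
  refine (Nat.card_eq_of_bijective (fun g => (⟨f g, g.1, g.2, hf g⟩ : S.slopes i j)) ⟨fun g g' e => ?_, ?_⟩).symm
  · have e' : f g = f g' := congrArg Subtype.val e
    haveI := S.nontrivialU
    obtain ⟨u, hu⟩ := exists_ne (0 : S.U)
    obtain ⟨f'', hf''⟩ := S.exists_slope i j (inv_mem g'.2)
    have hone := S.slope_mul hij hf'' (hf g)
    have hone' := S.slope_mul hij hf'' (hf g')
    have h0 : f'' + f g = 0 := by rw [e']; exact S.slope_one (inv_mul_cancel _) hone'
    have := S.slope_eq_one hij hone hu (by rw [h0]; rfl)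
    exact Subtype.ext (inv_mul_eq_one.mp this).symm
  · rintro ⟨f', g, hg, h⟩
    exact ⟨⟨g, hg⟩, Subtype.ext (S.slope_unique (hf ⟨g, hg⟩) h)⟩

theorem slopes_comp {i j k : Fin S.m} (hij : i ≠ j) (hik : i ≠ k) (hkj : k ≠ j) {f f' : AddMonoid.End S.U}
    (hf : f ∈ S.slopes i k) (hf' : f' ∈ S.slopes k j) : f * f' ∈ S.slopes i j := by
  obtain ⟨g, hg, h⟩ := hf
  obtain ⟨g', hg', h'⟩ := hf'
  have hc : g * g' * g⁻¹ * g'⁻¹ ∈ A.elat (S.x i) (S.blk j) := by
    refine ⟨?_, ?_⟩
    · refine mul_mem ?_ ((A.ker (S.blk j)).inv_mem hg'.1)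
      have := A.ker_conj (g := g) hg'.1
      rwa [hg.2 _ (S.hblk j i hij)] at this
    · rw [show g * g' * g⁻¹ * g'⁻¹ = g * (g' * g⁻¹ * g'⁻¹) by group]
      refine mul_mem hg.2 ?_
      have := A.central_conj (g := g') ((A.central (S.x i)).inv_mem hg.2)
      rwa [hg'.1 _ (S.hblk j i hij)] at this
  refine ⟨_, hc, fun u => ?_⟩
  have e : S.tv hg * S.tv hg' = S.tv hc * (S.tv hg' * S.tv hg) := Subtype.ext (by
    simp only [Subgroup.coe_mul, tv]; group)
  have e1 := congrArg (fun q => S.toFrame.conj q (S.ι j u)) e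
  simp only [Frame.conj_mul] at e1
  rw [h' u, map_add, h, S.conj_fix_other hg hkj.symm (S.ι_mem j _), h' u, map_add,
    S.conj_fix_other hc hkj (S.ι_mem k _)] at e1
  change _ = S.ι j u + S.ι i (f (f' u))
  have e2 : S.toFrame.conj (S.tv hc) (S.ι j u) + S.ι k (f' u) =
      S.ι j u + S.ι i (f (f' u)) + S.ι k (f' u) := by rw [← e1]; abel
  exact add_right_cancel e2

theorem one_mem_slopes {i : Fin S.m} (hi : i ≠ S.i₀) : (1 : AddMonoid.End S.U) ∈ S.slopes i S.i₀ := by
  refine ⟨_, (S.exists_base hi).choose_spec.1, fun u => ?_⟩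
  rw [S.ι_self]
  change _ = (u : S.toFrame.V) + S.ι i u
  rw [ι, dif_neg hi]
  simp

theorem exists_third (i j : Fin S.m) : ∃ k, k ≠ i ∧ k ≠ j := by
  obtain ⟨k, hk⟩ : ((Finset.univ.erase i).erase j).Nonempty := by
    rw [← Finset.card_pos]
    have h1 := Finset.pred_card_le_card_erase (a := j) (s := Finset.univ.erase i)
    rw [Finset.card_erase_of_mem (Finset.mem_univ i), Finset.card_univ, Fintype.card_fin] at h1
    have := S.hm
    omega
  exact ⟨k, (Finset.mem_erase.mp (Finset.mem_erase.mp hk).2).1, (Finset.mem_erase.mp hk).1⟩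

/-- All the sets of slopes agree. -/
theorem slopes_eq {i j : Fin S.m} (hij : i ≠ j) {l : Fin S.m} (hl : l ≠ S.i₀) :
    S.slopes i j = S.slopes l S.i₀ := by
  haveI := S.finiteU
  haveI : Finite (AddMonoid.End S.U) :=
    Finite.of_injective (fun f : AddMonoid.End S.U => (f : S.U → S.U)) DFunLike.coe_injective
  have heq : ∀ {a b c d : Fin S.m}, a ≠ b → c ≠ d → S.slopes a b ⊆ S.slopes c d → S.slopes a b = S.slopes c d :=
    fun {a b c d} h1 h2 hs => Set.eq_of_subset_of_ncard_le hs (by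
      rw [← Nat.card_coe_set_eq, ← Nat.card_coe_set_eq, S.card_slopes h1, S.card_slopes h2]) (Set.toFinite _)
  have ha : ∀ {a b : Fin S.m}, a ≠ b → a ≠ S.i₀ → b ≠ S.i₀ → S.slopes a b = S.slopes a S.i₀ :=
    fun {a b} hab h1 h2 => heq hab h1 fun f hf => by
      have := S.slopes_comp h1 hab h2 hf (S.one_mem_slopes h2)
      rwa [mul_one] at this
  have hb : ∀ {a b : Fin S.m}, a ≠ S.i₀ → b ≠ S.i₀ → S.slopes a S.i₀ = S.slopes b S.i₀ := by
    intro a b h1 h2
    rcases eq_or_ne a b with rfl | hab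
    · rfl
    refine heq h1 h2 fun f hf => ?_
    have := S.slopes_comp h2 hab.symm h1 (show (1 : AddMonoid.End S.U) ∈ S.slopes b a by
      rw [ha hab.symm h2 h1]; exact S.one_mem_slopes h2) hf
    rwa [one_mul] at this
  by_cases hj : j = S.i₀
  · subst hj; exact hb hij hl
  by_cases hi : i = S.i₀
  · subst hi
    obtain ⟨k, hk, hkj⟩ := S.exists_third S.i₀ j
    rw [← hb hk hl, ← ha hkj hk hj]
    refine heq hij hkj fun f hf => ?_
    have := S.slopes_comp hkj hk hij (S.one_mem_slopes hk) hf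
    rwa [one_mul] at this
  rw [ha hij hi hj]; exact hb hi hl

end Basis

/-- A type without instances, to carry the transported field. -/
structure Tag (k : ℕ) : Type where
  val : Fin k

namespace Basis

variable {A : DAct D G} (S : Basis A)

/-- The slopes form a field. -/
theorem exists_field : ∃ (F : Type) (_ : Field F) (_ : Fintype F) (κ : F →+* AddMonoid.End S.U),
    Function.Injective κ ∧ Nat.card F = D.t ∧ ∀ i j, i ≠ j → ∀ s, κ s ∈ S.slopes i j := by
  haveI := S.finiteU
  haveI := S.nontrivialU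
  haveI : Finite (AddMonoid.End S.U) :=
    Finite.of_injective (fun f : AddMonoid.End S.U => (f : S.U → S.U)) DFunLike.coe_injective
  obtain ⟨l, hl, -⟩ := S.exists_third S.i₀ S.i₀
  obtain ⟨k, hk, hkl⟩ := S.exists_third S.i₀ l
  let M : Submonoid (AddMonoid.End S.U) :=
    { carrier := S.slopes l S.i₀
      one_mem' := S.one_mem_slopes hl
      mul_mem' := fun {f f'} hf hf' => by
        refine S.slopes_comp hl hkl.symm hk ?_ ?_
        · rwa [S.slopes_eq hkl.symm hl]
        · rwa [S.slopes_eq hk hl] }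
  have hsub : ∀ f ∈ S.slopes l S.i₀, -f ∈ S.slopes l S.i₀ := fun f hf => by
    obtain ⟨g, hg, h⟩ := hf
    obtain ⟨f', h'⟩ := S.exists_slope l S.i₀ (inv_mem hg)
    have e : f + f' = 0 := S.slope_one (mul_inv_cancel g) (S.slope_mul hl h h')
    rw [neg_eq_of_add_eq_zero_right e]
    exact ⟨_, inv_mem hg, h'⟩
  let R : Subring (AddMonoid.End S.U) :=
    { M with
      zero_mem' := S.zero_mem_slopes _ _
      add_mem' := fun hf hf' => S.slopes_add hl hf hf'
      neg_mem' := fun hf => hsub _ hf }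
  haveI : Nontrivial R := ⟨⟨0, 1, fun e => by
    obtain ⟨a, ha⟩ := exists_ne (0 : S.U)
    exact ha (DFunLike.congr_fun (congrArg Subtype.val e) a).symm⟩⟩
  haveI : NoZeroDivisors R := ⟨fun {a b} h => by
    by_contra! hc
    refine hc.2 (Subtype.ext ?_)
    refine AddMonoidHom.ext fun v => S.slopes_inj hl a.2 (fun e => hc.1 (Subtype.ext e)) ?_
    exact DFunLike.congr_fun (congrArg Subtype.val h) v⟩
  haveI : IsDomain R := NoZeroDivisors.to_isDomain _
  letI := Fintype.ofFinite R
  letI : Field R := (Finite.isDomain_to_isField R).toField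
  let e : Tag (Fintype.card R) ≃ R :=
    ⟨fun t => (Fintype.equivFin R).symm t.val, fun s => ⟨Fintype.equivFin R s⟩, fun t => by simp, fun s => by simp⟩
  letI : Field (Tag (Fintype.card R)) := e.field
  letI : Fintype (Tag (Fintype.card R)) := Fintype.ofEquiv _ e.symm
  refine ⟨_, inferInstance, inferInstance, R.subtype.comp e.ringEquiv.toRingHom,
    Subtype.val_injective.comp e.injective, ?_, fun i j hij s => ?_⟩
  · rw [Nat.card_congr e]
    exact S.card_slopes hl
  · rw [S.slopes_eq hij hl]; exact (e s).2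

end Basis

end

end CfsgLib.AxD
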