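import Cfsg.Agent.Lib.AxialDesign.Centre

set_option autoImplicit false
set_option linter.unusedSectionVars false

/-!
Elations, the translation group of a block, and lines of points.
-/

namespace CfsgLib.AxD

universe u v w

open scoped Classical

noncomputable section

/-- The orbit-stabiliser count for a permutation representation. -/
theorem orbit_stab {G α : Type*} [Group G] [Fintype G] [Fintype α] (f : G →* Equiv.Perm α) (H : Subgroup G) (a : α) :
    (Finset.univ.filter fun b => ∃ g ∈ H, f g a = b).card * (Finset.univ.filter fun g => g ∈ H ∧ f g a = a).card =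
      (Finset.univ.filter fun g => g ∈ H).card := by
  conv_rhs => rw [Finset.card_eq_sum_card_fiberwise (f := fun g => f g a)
    (t := Finset.univ.filter fun b => ∃ g ∈ H, f g a = b) (fun g hg => by
      have h1 := (Finset.mem_filter.mp hg).2
      simpa using ⟨g, h1, rfl⟩)]
  rw [← smul_eq_mul, ← Finset.sum_const]
  refine Finset.sum_congr rfl fun b hb => ?_
  obtain ⟨g₀, hg₀, rfl⟩ := (Finset.mem_filter.mp hb).2
  refine Finset.card_equiv (Equiv.mulLeft g₀) fun g => ?_
  simp only [Finset.mem_filter, Finset.mem_univ, true_and, Equiv.coe_mulLeft, map_mul, Equiv.Perm.coe_mul,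
    Function.comp_apply, EmbeddingLike.apply_eq_iff_eq]
  exact and_congr_left fun _ => (H.mul_mem_cancel_left hg₀).symm

namespace DAct

variable {P : Type u} {B : Type v} [Fintype P] [Fintype B] {D : Des P B} {G : Type w} [Group G] (A : DAct D G)

/-- Automorphisms fixing every block through a point. -/
def central (x : P) : Subgroup G where
  carrier := {g | ∀ E, D.I x E → A.b g E = E}
  mul_mem' {g h} hg hh E hE := by rw [A.b_mul, hh E hE, hg E hE]
  one_mem' := fun E _ => by simp
  inv_mem' {g} hg E hE := by conv_lhs => rw [← hg E hE, A.b_inv_apply]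

@[simp] theorem mem_central {x : P} {g : G} : g ∈ A.central x ↔ ∀ E, D.I x E → A.b g E = E := Iff.rfl

theorem central_le_stP {x : P} {g : G} (hg : g ∈ A.central x) : A.p g x = x := by
  refine D.eq_of_blks (Finset.eq_of_subset_of_card_le (fun E hE => ?_) (by rw [D.blks_card, D.blks_card]))
  rw [D.mem_blks] at hE ⊢
  have h1 : D.I x (A.b g⁻¹ E) := by rw [← A.inc g, A.b_apply_inv]; exact hE
  have h2 := hg _ h1
  rw [A.b_apply_inv] at h2
  rwa [← h2] at h1

/-- Elations with centre `x` and axis `C`. -/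
def elat (x : P) (C : B) : Subgroup G := A.ker C ⊓ A.central x

theorem central_conj {x : P} {g h : G} (hh : h ∈ A.central x) : g * h * g⁻¹ ∈ A.central (A.p g x) := fun E hE => by
  have h1 : D.I x (A.b g⁻¹ E) := by rw [← A.inc g, A.b_apply_inv]; exact hE
  rw [A.b_mul, A.b_mul, hh _ h1, A.b_apply_inv]

theorem elat_conj {x : P} {C : B} {g h : G} (hh : h ∈ A.elat x C) : g * h * g⁻¹ ∈ A.elat (A.p g x) (A.b g C) :=
  ⟨A.ker_conj hh.1, A.central_conj hh.2⟩

theorem two_central {x y : P} {C : B} {g : G} (hC : g ∈ A.ker C) (hx : g ∈ A.central x) (hy : g ∈ A.central y)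
    (hne : x ≠ y) : g = 1 := by
  by_contra hg1
  have h1 : D.blks x ∪ D.blks y ⊆ A.Fb g := fun E hE => by
    rcases Finset.mem_union.mp hE with h | h
    · exact (mem_Fb A).mpr (hx E (D.mem_blks.mp h))
    · exact (mem_Fb A).mpr (hy E (D.mem_blks.mp h))
  have h2 := Finset.card_le_card h1
  have h3 := Finset.card_union_add_card_inter (D.blks x) (D.blks y)
  rw [D.inter_blks_card hne, D.blks_card, D.blks_card] at h3
  rw [A.card_Fb_axial hC] at h2
  have := A.off_le_one hC hg1
  have := D.k_eq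
  have := D.two_le_a
  omega

theorem elat_fpf {x : P} {C : B} (hx : D.I x C) {g : G} (hg : g ∈ A.elat x C) (hg1 : g ≠ 1) : A.off C g = ∅ := by
  refine Finset.eq_empty_of_forall_notMem fun z hz => ?_
  simp only [off, Finset.mem_filter, mem_Fp] at hz
  refine hg1 (A.two_central hg.1 hg.2 (y := z) (fun E hE => A.fixed_of_fixed_point hg.1 hz.2 hz.1 hE) ?_)
  exact fun e => hz.2 (e ▸ hx)

theorem elat_Fb {x : P} {C : B} (hx : D.I x C) {g : G} (hg : g ∈ A.elat x C) (hg1 : g ≠ 1) :
    A.Fb g = D.blks x :=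
  (Finset.eq_of_subset_of_card_le (fun E hE => (mem_Fb A).mpr (hg.2 E (D.mem_blks.mp hE)))
    (by rw [A.card_Fb_axial hg.1, A.elat_fpf hx hg hg1, Finset.card_empty, D.blks_card, add_zero])).symm

theorem elat_free {x : P} {C : B} (hx : D.I x C) {g : G} (hg : g ∈ A.elat x C) {z : P} (hz : ¬ D.I z C)
    (h : A.p g z = z) : g = 1 := by
  by_contra hg1
  have := A.elat_fpf hx hg hg1
  rw [Finset.eq_empty_iff_forall_notMem] at this
  exact this z (by simp [off, h, hz])

/-- All elations with axis `C`. -/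
def Axial.transl {A : DAct D G} (hA : A.Axial) (C : B) : Subgroup G where
  carrier := {g | ∃ x, D.I x C ∧ g ∈ A.elat x C}
  one_mem' := by
    obtain ⟨x, hx⟩ : (D.pts C).Nonempty := Finset.card_pos.mp (by rw [D.pts_card]; have := D.two_lt_k; omega)
    exact ⟨x, D.mem_pts.mp hx, one_mem _⟩
  inv_mem' := fun {g} ⟨x, hx, hg⟩ => ⟨x, hx, inv_mem hg⟩
  mul_mem' := by
    rintro g h ⟨x, hx, hg⟩ ⟨y, hy, hh⟩
    by_cases hg1 : g = 1
    · subst hg1; rw [one_mul]; exact ⟨y, hy, hh⟩
    by_cases hh1 : h = 1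
    · subst hh1; rw [mul_one]; exact ⟨x, hx, hg⟩
    rcases eq_or_ne x y with rfl | hxy
    · exact ⟨x, hx, mul_mem hg hh⟩
    by_cases hgh1 : g * h = 1
    · rw [hgh1]; exact ⟨x, hx, one_mem _⟩
    have hk : g * h ∈ A.ker C := mul_mem hg.1 hh.1
    -- the product fixes no point off the block
    have hoff : A.off C (g * h) = ∅ := by
      refine Finset.eq_empty_of_forall_notMem fun z hz => ?_
      simp only [off, Finset.mem_filter, mem_Fp, A.p_mul] at hz
      obtain ⟨hfix, hzC⟩ := hz
      have hzx : z ≠ x := fun e => hzC (e ▸ hx)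
      have hzy : z ≠ y := fun e => hzC (e ▸ hy)
      have hback : A.p h z = A.p g⁻¹ z := by conv_rhs => rw [← hfix, A.p_inv_apply]
      have e1 : ∀ E, D.I z E → (D.I y E ↔ D.I (A.p h z) E) := fun E hE => by
        rw [← A.fixed_iff_image hh.1 hzC hE, ← mem_Fb A, A.elat_Fb hy hh hh1, D.mem_blks]
      have e2 : ∀ E, D.I z E → (D.I x E ↔ D.I (A.p g⁻¹ z) E) := fun E hE => by
        rw [← A.fixed_iff_image (inv_mem hg.1) hzC hE, ← mem_Fb A,
          A.elat_Fb hx (inv_mem hg) (by simpa using hg1), D.mem_blks]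
      have hsub : D.blks z ∩ D.blks x ⊆ D.blks x ∩ D.blks y := fun E hE => by
        simp only [Finset.mem_inter, D.mem_blks] at hE ⊢
        exact ⟨hE.2, (e1 E hE.1).mpr (hback ▸ (e2 E hE.1).mp hE.2)⟩
      have heq := Finset.eq_of_subset_of_card_le hsub
        (by rw [D.inter_blks_card hzx, D.inter_blks_card hxy])
      have : C ∈ D.blks z ∩ D.blks x := by rw [heq]; simp [hx, hy]
      exact hzC (by simpa using (Finset.mem_inter.mp this).1)
    by_contra hno
    -- hence it would have to have a centre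
    obtain ⟨z, hz, hFb⟩ := hA.centre hk hoff
    exact hno ⟨z, hz, hk, fun E hE => (mem_Fb A).mp (by rw [hFb]; simpa using hE)⟩

variable {A}

theorem Axial.mem_transl (hA : A.Axial) {C : B} {g : G} :
    g ∈ hA.transl C ↔ ∃ x, D.I x C ∧ g ∈ A.elat x C := Iff.rfl

theorem Axial.elat_le_transl (hA : A.Axial) {x : P} {C : B} (hx : D.I x C) : A.elat x C ≤ hA.transl C :=
  fun _ hg => ⟨x, hx, hg⟩

theorem Axial.transl_le_ker (hA : A.Axial) (C : B) : hA.transl C ≤ A.ker C := fun _ ⟨_, _, hg⟩ => hg.1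

theorem Axial.transl_free (hA : A.Axial) {C : B} {g : G} (hg : g ∈ hA.transl C) {z : P} (hz : ¬ D.I z C)
    (h : A.p g z = z) : g = 1 := by
  obtain ⟨x, hx, hg⟩ := hg
  exact A.elat_free hx hg hz h

theorem Axial.transl_conj (hA : A.Axial) {C : B} {g h : G} (hh : h ∈ hA.transl C) :
    g * h * g⁻¹ ∈ hA.transl (A.b g C) := by
  obtain ⟨x, hx, hh⟩ := hh
  exact ⟨A.p g x, (A.inc g x C).mpr hx, A.elat_conj hh⟩

theorem Axial.elat_nontriv (hA : A.Axial) {x : P} {C : B} (hx : D.I x C) : ∃ g ∈ A.elat x C, g ≠ 1 := by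
  obtain ⟨g, hg, hg1, hoff⟩ := hA.exists_fpf C
  obtain ⟨z, hz, hFb⟩ := hA.centre hg hoff
  obtain ⟨k, hkC, hkz⟩ := hA.on_block C z x hz hx
  refine ⟨k * g * k⁻¹, ?_, fun e => hg1 (by simpa using e)⟩
  rw [← hkC, ← hkz]
  exact A.elat_conj ⟨hg, fun E hE => (mem_Fb A).mp (by rw [hFb]; simpa using hE)⟩

theorem elat_comm_ne {x y : P} {C : B} (hx : D.I x C) (hy : D.I y C) (hne : x ≠ y) {g h : G} (hg : g ∈ A.elat x C)
    (hh : h ∈ A.elat y C) : Commute g h := by
  have h1 : g * h * g⁻¹ ∈ A.elat y C := by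
    have := A.elat_conj (g := g) hh
    rwa [hg.1 y hy, show A.b g C = C from A.ker_le_stB C hg.1] at this
  have h2 : h * g⁻¹ * h⁻¹ ∈ A.elat x C := by
    have := A.elat_conj (g := h) (inv_mem hg)
    rwa [hh.1 x hx, show A.b h C = C from A.ker_le_stB C hh.1] at this
  have h3 : g * h * g⁻¹ * h⁻¹ ∈ A.elat x C := by simpa only [mul_assoc] using mul_mem hg h2
  have h4 : g * h * g⁻¹ * h⁻¹ ∈ A.elat y C := mul_mem h1 (inv_mem hh)
  exact commutatorElement_eq_one_iff_commute.mp (by
    rw [commutatorElement_def]; exact A.two_central h3.1 h3.2 h4.2 hne)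

theorem Axial.transl_comm (hA : A.Axial) {C : B} {g h : G} (hg : g ∈ hA.transl C) (hh : h ∈ hA.transl C) :
    Commute g h := by
  obtain ⟨x, hx, hg⟩ := hg
  obtain ⟨y, hy, hh⟩ := hh
  rcases eq_or_ne x y with rfl | hxy
  swap
  · exact elat_comm_ne hx hy hxy hg hh
  by_cases hg1 : g = 1
  · subst hg1; exact Commute.one_left _
  obtain ⟨z, hz, hzx⟩ : ∃ z, D.I z C ∧ z ≠ x := by
    obtain ⟨z, hz⟩ : ((D.pts C).erase x).Nonempty := Finset.card_pos.mp (by
      rw [Finset.card_erase_of_mem (by simpa using hx), D.pts_card]; have := D.two_lt_k; omega)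
    exact ⟨z, by simpa using (Finset.mem_erase.mp hz).2, (Finset.mem_erase.mp hz).1⟩
  obtain ⟨u, hu, hu1⟩ := hA.elat_nontriv hz
  obtain ⟨w, hw, hgu⟩ := (hA.transl C).mul_mem (hA.elat_le_transl hx hg) (hA.elat_le_transl hz hu)
  have hwx : w ≠ x := by
    rintro rfl
    have : u ∈ A.elat w C := by simpa using mul_mem (inv_mem hg) hgu
    exact hu1 (A.two_central hu.1 hu.2 this.2 hzx)
  have h1 : Commute h (g * u) := elat_comm_ne hx hw hwx.symm hh hgu
  have h2 : Commute h u := elat_comm_ne hx hz hzx.symm hh hu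
  have h3 : Commute h (g * u * u⁻¹) := h1.mul_right h2.inv_right
  rw [mul_inv_cancel_right] at h3
  exact h3.symm

theorem Axial.card_elat_eq (hA : A.Axial) {x y : P} {C E : B} (hx : D.I x C) (hy : D.I y E) :
    Nat.card (A.elat x C) = Nat.card (A.elat y E) := by
  obtain ⟨X, hX⟩ := exists_ne_block D C
  obtain ⟨Y, hY⟩ := exists_ne_block D E
  obtain ⟨g, hgC, -⟩ := hA.two_b C X E Y hX.symm hY.symm
  obtain ⟨k, hkE, hky⟩ := hA.on_block E (A.p g x) y (hgC ▸ (A.inc g x C).mpr hx) hy
  have e1 : A.p (k * g) x = y := by rw [A.p_mul, hky]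
  have e2 : A.b (k * g) C = E := by rw [A.b_mul, hgC, hkE]
  refine Nat.card_congr ((MulAut.conj (k * g)).toEquiv.subtypeEquiv fun h => ?_)
  refine ⟨fun hh => e1 ▸ e2 ▸ A.elat_conj hh, fun hh => ?_⟩
  have := A.elat_conj (g := (k * g)⁻¹) hh
  rw [← e1, ← e2, A.p_inv_apply, A.b_inv_apply] at this
  simpa [MulAut.conj_apply, mul_assoc] using this

/-- An elation fixes another block exactly when the block passes through the centre. -/
theorem elat_fix_iff {x : P} {C E : B} (hx : D.I x C) {g : G} (hg : g ∈ A.elat x C) (hg1 : g ≠ 1) :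
    A.b g E = E ↔ D.I x E := by
  rw [← mem_Fb A, A.elat_Fb hx hg hg1, D.mem_blks]

/-- A count of the elations with given axis over a set of centres. -/
theorem Axial.count_elations [Fintype G] (hA : A.Axial) {C : B} {x₀ : P} (hx₀ : D.I x₀ C) (S : Finset P)
    (hS : ∀ x ∈ S, D.I x C) :
    ((Finset.univ.filter fun g => ∃ x ∈ S, g ∈ A.elat x C ∧ g ≠ 1)).card =
      S.card * (Nat.card (A.elat x₀ C) - 1) := by
  rw [show (Finset.univ.filter fun g => ∃ x ∈ S, g ∈ A.elat x C ∧ g ≠ 1) =
    S.biUnion fun x => (Finset.univ.filter fun g => g ∈ A.elat x C).erase 1 by ext g; simp; tauto]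
  rw [Finset.card_biUnion]
  · refine Finset.sum_const_nat fun x hx => ?_
    rw [Finset.card_erase_of_mem (by simp [one_mem]), ← Fintype.card_subtype, ← Nat.card_eq_fintype_card,
      hA.card_elat_eq (hS x hx) hx₀]
  · intro x hx y hy hne
    simp only [Function.onFun, Finset.disjoint_left, Finset.mem_erase, Finset.mem_filter, Finset.mem_univ, true_and]
    rintro g ⟨h1, h2⟩ ⟨-, h3⟩
    exact h1 (A.two_central h2.1 h2.2 h3.2 hne)

theorem Axial.card_transl_count [Fintype G] (hA : A.Axial) {C : B} {x₀ : P} (hx₀ : D.I x₀ C) :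
    (Finset.univ.filter fun g => g ∈ hA.transl C).card = 1 + D.k * (Nat.card (A.elat x₀ C) - 1) := by
  rw [show (Finset.univ.filter fun g => g ∈ hA.transl C) =
    insert 1 (Finset.univ.filter fun g => ∃ x ∈ D.pts C, g ∈ A.elat x C ∧ g ≠ 1) by
      ext g
      simp only [Finset.mem_filter, Finset.mem_univ, true_and, Finset.mem_insert, D.mem_pts]
      constructor
      · rintro ⟨x, hx, hg⟩
        by_cases h : g = 1
        exacts [Or.inl h, Or.inr ⟨x, hx, hg, h⟩]
      · rintro (rfl | ⟨x, hx, hg, -⟩)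
        exacts [one_mem _, ⟨x, hx, hg⟩]]
  rw [Finset.card_insert_of_notMem (by simp), hA.count_elations hx₀ _ (fun x hx => D.mem_pts.mp hx), D.pts_card]
  omega

theorem Axial.card_transl_stab [Fintype G] (hA : A.Axial) {C E : B} (hE : E ≠ C) {x₀ : P} (hx₀ : D.I x₀ C) :
    (Finset.univ.filter fun g => g ∈ hA.transl C ∧ A.b g E = E).card =
      1 + D.lam * (Nat.card (A.elat x₀ C) - 1) := by
  rw [show (Finset.univ.filter fun g => g ∈ hA.transl C ∧ A.b g E = E) =
    insert 1 (Finset.univ.filter fun g => ∃ x ∈ D.pts C ∩ D.pts E, g ∈ A.elat x C ∧ g ≠ 1) by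
      ext g
      simp only [Finset.mem_filter, Finset.mem_univ, true_and, Finset.mem_insert, Finset.mem_inter, D.mem_pts]
      constructor
      · rintro ⟨⟨x, hx, hg⟩, hgE⟩
        by_cases h : g = 1
        exacts [Or.inl h, Or.inr ⟨x, ⟨hx, (elat_fix_iff hx hg h).mp hgE⟩, hg, h⟩]
      · rintro (rfl | ⟨x, ⟨hx, hxE⟩, hg, -⟩)
        exacts [⟨one_mem _, by simp⟩, ⟨⟨x, hx, hg⟩, hg.2 E hxE⟩]]
  rw [Finset.card_insert_of_notMem (by simp), hA.count_elations hx₀ _ (fun x hx => D.mem_pts.mp (Finset.mem_inter.mp hx).1),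
    D.inter_pts_card hE.symm]
  omega

/-- Each elation group has order `t`. -/
theorem Axial.card_elat (hA : A.Axial) {x : P} {C : B} (hx : D.I x C) : Nat.card (A.elat x C) = D.t := by
  haveI := A.finite
  haveI := Fintype.ofFinite G
  set e := Nat.card (A.elat x C)
  have he : 2 ≤ e := by
    obtain ⟨g, hg, hg1⟩ := hA.elat_nontriv hx
    exact (Subgroup.one_lt_card_iff_ne_bot _).mpr fun h => hg1 (by simpa [h] using hg)
  -- a block not through `x`
  obtain ⟨E, hE⟩ : (D.blks x)ᶜ.Nonempty := Finset.card_pos.mp (by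
    rw [Finset.card_compl, D.blks_card, D.card_B]; have := D.k_lt; omega)
  rw [Finset.mem_compl, D.mem_blks] at hE
  have hEC : E ≠ C := fun h => hE (h ▸ hx)
  let orb := fun F : B => Finset.univ.filter fun F' => ∃ g ∈ hA.transl C, A.b g F = F'
  set o := (orb E).card
  have horb : ∀ F, F ≠ C → (orb F).card * (1 + D.lam * (e - 1)) = 1 + D.k * (e - 1) := fun F hF => by
    rw [← hA.card_transl_stab hF hx, ← hA.card_transl_count hx]
    exact orbit_stab A.b (hA.transl C) F
  have ho : ∀ F, F ≠ C → (orb F).card = o := fun F hF =>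
    Nat.eq_of_mul_eq_mul_right (show 0 < 1 + D.lam * (e - 1) by omega) ((horb F hF).trans (horb E hEC).symm)
  have hle : e ≤ o := by
    have hsub : (Finset.univ.filter fun g => g ∈ A.elat x C).image (fun g => A.b g E) ⊆ orb E := by
      intro F hF
      simp only [Finset.mem_image, Finset.mem_filter, Finset.mem_univ, true_and] at hF
      obtain ⟨g, hg, rfl⟩ := hF
      simp only [orb, Finset.mem_filter, Finset.mem_univ, true_and]
      exact ⟨g, hA.elat_le_transl hx hg, rfl⟩
    refine le_trans ?_ (Finset.card_le_card hsub)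
    rw [Finset.card_image_of_injOn, ← Fintype.card_subtype, ← Nat.card_eq_fintype_card]
    intro g hg h hh e'
    simp only [Finset.coe_filter, Finset.mem_univ, true_and, Set.mem_ofPred_eq] at hg hh
    by_contra hne
    have h1 : h⁻¹ * g ∈ A.elat x C := mul_mem (inv_mem hh) hg
    have h2 : h⁻¹ * g ≠ 1 := fun e'' => hne (inv_mul_eq_one.mp e'').symm
    refine hE ((elat_fix_iff hx h1 h2).mp ?_)
    rw [A.b_mul, show A.b g E = A.b h E from e', A.b_inv_apply]
  -- the orbits cut the blocks through `x` evenly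
  have hdvd : o ∣ D.k - 1 := by
    rw [← D.blks_card x, ← Finset.card_erase_of_mem (show C ∈ D.blks x by simpa using hx),
      Finset.card_eq_sum_card_image orb ((D.blks x).erase C)]
    refine Finset.dvd_sum fun O hO => ?_
    obtain ⟨F, hF, rfl⟩ := Finset.mem_image.mp hO
    have hF' := (Finset.mem_erase.mp hF).1
    have : (((D.blks x).erase C).filter fun F' => orb F' = orb F) = orb F := by
      ext F'
      simp only [orb, Finset.mem_filter, Finset.mem_erase, D.mem_blks, Finset.mem_univ, true_and] at hF ⊢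
      constructor
      · rintro ⟨-, e'⟩
        have : F' ∈ Finset.univ.filter fun F'' => ∃ g ∈ hA.transl C, A.b g F = F'' := by
          rw [← e']; simp only [Finset.mem_filter, Finset.mem_univ, true_and]; exact ⟨1, one_mem _, by simp⟩
        simpa using this
      · rintro ⟨g, hg, rfl⟩
        refine ⟨⟨fun e' => hF.1 ((A.b g).injective (e'.trans (A.ker_le_stB C (hA.transl_le_ker C hg)).symm)), ?_⟩, ?_⟩
        · rw [A.meet_axis (hA.transl_le_ker C hg) hx]; exact hF.2
        · ext F''
          simp only [Finset.mem_filter, Finset.mem_univ, true_and]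
          exact ⟨fun ⟨k, hk, e'⟩ => ⟨k * g, mul_mem hk hg, by rw [A.b_mul, e']⟩,
            fun ⟨k, hk, e'⟩ => ⟨k * g⁻¹, mul_mem hk (inv_mem hg), by rw [A.b_mul, A.b_inv_apply, e']⟩⟩
    rw [this, ho F hF']
  obtain ⟨q, hq⟩ := hdvd
  have hk0 := D.two_lt_k
  obtain ⟨n, hn⟩ : ∃ n, e = n + 1 := ⟨e - 1, by omega⟩
  have h0 := horb E hEC
  change o * (1 + D.lam * (e - 1)) = 1 + D.k * (e - 1) at h0
  rw [hn, Nat.add_sub_cancel] at h0
  rw [show D.k = o * q + 1 by omega] at h0
  have hoe : o ∣ n + 1 := by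
    refine (Nat.dvd_add_right (dvd_mul_right o (q * n))).mp ⟨1 + D.lam * n, ?_⟩
    rw [h0]; ring
  have hon : o = n + 1 := le_antisymm (Nat.le_of_dvd (by omega) hoe) (by omega)
  rw [hon] at hq h0
  have hk := hA.k_eq_t
  have hl := D.one_le_lam
  have hqk : D.k = (n + 1) * q + 1 := by omega
  have h1 : (n + 1) * (D.lam * n) = (n + 1) * (q * n) := by linarith
  have h2 : D.lam * n = q * n := Nat.eq_of_mul_eq_mul_left (by omega) h1
  have h3 : D.lam = q := Nat.eq_of_mul_eq_mul_right (by omega) h2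
  subst h3
  rw [hn]
  exact Nat.eq_of_mul_eq_mul_right (show 0 < D.lam by omega) (by omega)

/-- The translations are regular off the block. -/
theorem Axial.transl_trans (hA : A.Axial) {C : B} {z w : P} (hz : ¬ D.I z C) (hw : ¬ D.I w C) :
    ∃ g ∈ hA.transl C, A.p g z = w := by
  haveI := A.finite
  haveI := Fintype.ofFinite G
  obtain ⟨x, hx⟩ : (D.pts C).Nonempty := Finset.card_pos.mp (by rw [D.pts_card]; have := D.two_lt_k; omega)
  rw [D.mem_pts] at hx
  have hcard := hA.card_transl_count hx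
  rw [hA.card_elat hx] at hcard
  have himg : (Finset.univ.filter fun g => g ∈ hA.transl C).image (fun g => A.p g z) = (D.pts C)ᶜ := by
    refine Finset.eq_of_subset_of_card_le (fun y hy => ?_) ?_
    · simp only [Finset.mem_image, Finset.mem_filter, Finset.mem_univ, true_and] at hy
      obtain ⟨g, hg, rfl⟩ := hy
      rw [Finset.mem_compl, D.mem_pts]
      exact fun e => hz ((A.p g).injective (hA.transl_le_ker C hg _ e) ▸ e)
    · rw [Finset.card_image_of_injOn, hcard, Finset.card_compl, D.pts_card, hA.card_P]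
      · obtain ⟨s, hs⟩ : ∃ s, D.t = s + 1 := ⟨D.t - 1, by have := hA.two_le_t; omega⟩
        have hk := hA.k_eq_t
        have := D.k_eq
        rw [hs] at hk ⊢
        simp only [Nat.add_sub_cancel, Nat.add_sub_cancel_left]
        nlinarith
      · intro g hg h hh e'
        simp only [Finset.coe_filter, Finset.mem_univ, true_and, Set.mem_ofPred_eq] at hg hh
        refine (inv_mul_eq_one.mp (hA.transl_free (mul_mem (inv_mem hh) hg) hz ?_)).symm
        rw [A.p_mul, show A.p g z = A.p h z from e', A.p_inv_apply]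
  have : w ∈ (Finset.univ.filter fun g => g ∈ hA.transl C).image (fun g => A.p g z) := by
    rw [himg, Finset.mem_compl, D.mem_pts]; exact hw
  simpa using this

theorem Axial.card_transl (hA : A.Axial) (C : B) : Nat.card (hA.transl C) = D.t * D.a := by
  haveI := A.finite
  haveI := Fintype.ofFinite G
  obtain ⟨z, hz⟩ : ((D.pts C)ᶜ).Nonempty :=
    Finset.card_pos.mp (by rw [Finset.card_compl, D.pts_card]; have := D.k_lt; omega)
  rw [Finset.mem_compl, D.mem_pts] at hz
  obtain ⟨x, hx⟩ : (D.pts C).Nonempty := Finset.card_pos.mp (by rw [D.pts_card]; have := D.two_lt_k; omega)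
  rw [Nat.card_eq_fintype_card, Fintype.card_subtype, hA.card_transl_count (D.mem_pts.mp hx),
    hA.card_elat (D.mem_pts.mp hx)]
  obtain ⟨s, hs⟩ : ∃ s, D.t = s + 1 := ⟨D.t - 1, by have := hA.two_le_t; omega⟩
  have hk := hA.k_eq_t
  have := D.k_eq
  rw [hs] at hk ⊢
  simp only [Nat.add_sub_cancel]
  nlinarith


/-- The points of the line through two points. -/
def line (x y : P) (D : Des P B) : Finset P := Finset.univ.filter fun z => D.blks x ∩ D.blks y ⊆ D.blks z

theorem mem_line {x y z : P} : z ∈ line x y D ↔ ∀ E, D.I x E → D.I y E → D.I z E := by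
  simp only [line, Finset.mem_filter, Finset.mem_univ, true_and]
  exact ⟨fun h E h1 h2 => by simpa using h (show E ∈ D.blks x ∩ D.blks y by simp [h1, h2]),
    fun h E hE => by simp only [Finset.mem_inter, D.mem_blks] at hE ⊢; exact h E hE.1 hE.2⟩

theorem left_mem_line (x y : P) : x ∈ line x y D := mem_line.mpr fun _ h _ => h

theorem right_mem_line (x y : P) : y ∈ line x y D := mem_line.mpr fun _ _ h => h

/-- A line has at most `t + 1` points. -/
theorem Axial.card_line_le (hA : A.Axial) {x y : P} (hxy : x ≠ y) : (line x y D).card ≤ D.t + 1 := by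
  set L := D.blks x ∩ D.blks y
  have hdisj : Set.PairwiseDisjoint (↑(line x y D) : Set P) fun z => D.blks z \ L := by
    intro z hz w hw hne
    simp only [Function.onFun, Finset.disjoint_left, Finset.mem_sdiff]
    rintro E ⟨h1, h2⟩ ⟨h3, -⟩
    have hsub : L ⊆ D.blks z ∩ D.blks w :=
      Finset.subset_inter (Finset.mem_filter.mp hz).2 (Finset.mem_filter.mp hw).2
    have heq := Finset.eq_of_subset_of_card_le hsub
      (by rw [D.inter_blks_card hne, D.inter_blks_card hxy])
    exact h2 (heq ▸ Finset.mem_inter.mpr ⟨h1, h3⟩)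
  have hb := Finset.card_le_card (show ((line x y D).biUnion fun z => D.blks z \ L) ⊆ Lᶜ by
    intro E hE; simp only [Finset.mem_biUnion, Finset.mem_sdiff] at hE
    obtain ⟨_, _, _, h⟩ := hE; exact Finset.mem_compl.mpr h)
  rw [Finset.card_biUnion hdisj, Finset.card_compl, D.card_B, D.inter_blks_card hxy,
    Finset.sum_const_nat (m := D.a) fun z hz => by
      rw [Finset.card_sdiff_of_subset (Finset.mem_filter.mp hz).2, D.blks_card, D.inter_blks_card hxy]
      have := D.k_eq; omega, hA.card_P] at hb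
  have hk := D.k_eq
  have : (line x y D).card * D.a ≤ (D.t + 1) * D.a := by rw [add_mul, one_mul]; omega
  exact Nat.le_of_mul_le_mul_right this (by have := D.two_le_a; omega)

/-- Elations in two centres multiply out to the elations centred on their line. -/
theorem Axial.sum_line (hA : A.Axial) {C : B} {x y : P} (hx : D.I x C) (hy : D.I y C) (hxy : x ≠ y) {z : P}
    (hz : z ∈ line x y D) {u : G} (hu : u ∈ A.elat z C) :
    ∃ g ∈ A.elat x C, ∃ h ∈ A.elat y C, u = g * h := by
  haveI := A.finite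
  haveI := Fintype.ofFinite G
  set U := (line x y D).biUnion fun z => (Finset.univ.filter fun g => g ∈ A.elat z C).erase 1
  set Sx := Finset.univ.filter fun g => g ∈ A.elat x C
  set Sy := Finset.univ.filter fun g => g ∈ A.elat y C
  set S := (Sx ×ˢ Sy).image fun p => p.1 * p.2
  have hline : ∀ w ∈ line x y D, D.I w C := fun w hw => mem_line.mp hw C hx hy
  have hsub : S ⊆ insert 1 U := by
    intro u hu
    simp only [S, Sx, Sy, Finset.mem_image, Finset.mem_product, Finset.mem_filter, Finset.mem_univ, true_and] at hu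
    obtain ⟨⟨g, h⟩, ⟨hg, hh⟩, rfl⟩ := hu
    simp only [U, Finset.mem_insert, Finset.mem_biUnion, Finset.mem_erase, Finset.mem_filter, Finset.mem_univ, true_and]
    by_cases h1 : g * h = 1
    · exact Or.inl h1
    obtain ⟨w, hw, hgh⟩ := (hA.transl C).mul_mem (hA.elat_le_transl hx hg) (hA.elat_le_transl hy hh)
    refine Or.inr ⟨w, mem_line.mpr fun E hxE hyE => (elat_fix_iff hw hgh h1).mp ?_, h1, hgh⟩
    rw [A.b_mul, hh.2 E hyE, hg.2 E hxE]
  have hScard : S.card = D.t * D.t := by
    rw [Finset.card_image_of_injOn, Finset.card_product]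
    · simp only [Sx, Sy, ← Fintype.card_subtype, ← Nat.card_eq_fintype_card]
      rw [hA.card_elat hx, hA.card_elat hy]
    · rintro ⟨g, h⟩ hp ⟨g', h'⟩ hp' e
      simp only [Finset.coe_product, Set.mem_prod, Sx, Sy, Finset.coe_filter, Finset.mem_univ, true_and,
        Set.mem_ofPred_eq] at hp hp'
      have e1 : g'⁻¹ * g = h' * h⁻¹ := by
        rw [eq_mul_inv_iff_mul_eq, mul_assoc, show g * h = g' * h' from e, inv_mul_cancel_left]
      have hmem : g'⁻¹ * g ∈ A.elat x C := mul_mem (inv_mem hp'.1) hp.1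
      have hmem' : g'⁻¹ * g ∈ A.elat y C := e1 ▸ mul_mem hp'.2 (inv_mem hp.2)
      have h0 := A.two_central hmem.1 hmem.2 hmem'.2 hxy
      have hg : g = g' := (inv_mul_eq_one.mp h0).symm
      subst hg
      exact Prod.ext rfl (mul_left_cancel (show g * h = g * h' from e))
  have hUcard : (insert 1 U).card ≤ D.t * D.t := by
    refine (Finset.card_insert_le _ _).trans ?_
    have h1 : U.card ≤ (line x y D).card * (D.t - 1) := by
      refine Finset.card_biUnion_le.trans (le_of_eq ?_)
      refine Finset.sum_const_nat fun w hw => ?_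
      rw [Finset.card_erase_of_mem (by simp [one_mem]), ← Fintype.card_subtype, ← Nat.card_eq_fintype_card,
        hA.card_elat (hline w hw)]
    have h2 := Nat.mul_le_mul_right (D.t - 1) (hA.card_line_le hxy)
    obtain ⟨s, hs⟩ : ∃ s, D.t = s + 1 := ⟨D.t - 1, by have := hA.two_le_t; omega⟩
    rw [hs] at h1 h2 ⊢
    simp only [Nat.add_sub_cancel] at h1 h2
    nlinarith
  have heq := Finset.eq_of_subset_of_card_le hsub (by rw [hScard]; exact hUcard)
  have : u ∈ S := by
    rw [heq]
    simp only [U, Finset.mem_insert, Finset.mem_biUnion, Finset.mem_erase, Finset.mem_filter, Finset.mem_univ, true_and]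
    by_cases h1 : u = 1
    exacts [Or.inl h1, Or.inr ⟨z, hz, h1, hu⟩]
  simp only [S, Sx, Sy, Finset.mem_image, Finset.mem_product, Finset.mem_filter, Finset.mem_univ, true_and] at this
  obtain ⟨⟨g, h⟩, ⟨hg, hh⟩, e⟩ := this
  exact ⟨g, hg, h, hh, e.symm⟩

end DAct

end

end CfsgLib.AxD
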